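import Mathlib
import Cfsg.Agent.Lib.Classical.HermGen

/-!
Two generation of special unitary groups: calculus of Eichler transformations in a subgroup.
-/

set_option autoImplicit false
set_option linter.unusedSectionVars false
set_option linter.unusedVariables false
set_option linter.unusedSimpArgs false

namespace Cfsg.Agent.Lib.PSUTwo.Basic

open Module Cfsg.Agent.Lib.Classical.HermBasic Cfsg.Agent.Lib.Classical.HermElem Cfsg.Agent.Lib.Classical.HermGen

universe u v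

variable {F : Type u} [Field F] {V : Type v} [AddCommGroup V] [Module F V]
variable {σ : F →+* F} {h : V → V → F}

/-- All Eichler transformations of centre `c` belong to `G`. -/
def UU (σ : F →+* F) (h : V → V → F) (G : Subgroup (V ≃ₗ[F] V)) (c : V) : Prop :=
  ∀ b a g, EichAt σ h c b a g → g ∈ G

/-- Some Eichler transformation of centre `c` and vector `u` belongs to `G`. -/
def PP (σ : F →+* F) (h : V → V → F) (G : Subgroup (V ≃ₗ[F] V)) (c u : V) : Prop :=
  ∃ a g, g ∈ G ∧ EichAt σ h c u a g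

/-- The Eichler transformations of centre `x`, vector on the line of `y` and parameter `0` belong to `G`. -/
def RZ (σ : F →+* F) (h : V → V → F) (G : Subgroup (V ≃ₗ[F] V)) (x y : V) : Prop :=
  ∀ (d : F) g, EichAt σ h x (d • y) 0 g → g ∈ G

/-- The transvections of centre `c` belong to `G`. -/
def ZZ (σ : F →+* F) (h : V → V → F) (G : Subgroup (V ≃ₗ[F] V)) (c : V) : Prop :=
  ∀ (κ : F) g, EichAt σ h c 0 κ g → g ∈ G

variable {G : Subgroup (V ≃ₗ[F] V)} {c x y u u' : V}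

theorem eich_unique {e w : V} {a : F} {g g' : V ≃ₗ[F] V} (H : EichAt σ h e w a g) (H' : EichAt σ h e w a g') :
    g = g' := by
  ext1 x
  rw [H.apply, H'.apply]

theorem mul_mem_of_conj {g t : V ≃ₗ[F] V} (ht : t ∈ G) (hg : t⁻¹ * g * t⁻¹⁻¹ ∈ G) : g ∈ G := by
  have h3 : g = t * (t⁻¹ * g * t⁻¹⁻¹) * t⁻¹ := by group
  rw [h3]
  exact G.mul_mem (G.mul_mem ht hg) (G.inv_mem ht)

theorem inv_apply_self (t : V ≃ₗ[F] V) (x : V) : t⁻¹ (t x) = x := t.symm_apply_apply x

theorem apply_inv_self (t : V ≃ₗ[F] V) (x : V) : t (t⁻¹ x) = x := t.apply_symm_apply x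

section calculus

variable [FiniteDimensional F V] (S : HForm σ h) (hσ : Invol σ)

include S

theorem PP.add (H : PP σ h G c u) (H' : PP σ h G c u') : PP σ h G c (u + u') := by
  obtain ⟨a, g, hg, H⟩ := H
  obtain ⟨a', g', hg', H'⟩ := H'
  exact ⟨_, _, G.mul_mem hg hg', H.mul S H'⟩

include hσ in
theorem PP.neg (H : PP σ h G c u) : PP σ h G c (-u) := by
  obtain ⟨a, g, hg, H⟩ := H
  exact ⟨_, _, G.inv_mem hg, H.inv S hσ⟩

omit S in
theorem PP.conj (hG : G ≤ uGroup h) {t : V ≃ₗ[F] V} (ht : t ∈ G) (H : PP σ h G c u) : PP σ h G (t c) (t u) := by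
  obtain ⟨a, g, hg, H⟩ := H
  exact ⟨_, _, G.mul_mem (G.mul_mem ht hg) (G.inv_mem ht), H.conj (hG ht)⟩

include hσ in
theorem PP.center {l : F} (hl : l ≠ 0) (H : PP σ h G (l • c) u) : PP σ h G c (σ l • u) := by
  obtain ⟨a, g, hg, H⟩ := H
  exact ⟨_, _, hg, H.smul_center S hσ hl⟩

include hσ in
theorem PP.shift {l : F} (H : PP σ h G c (u + l • c)) : PP σ h G c u := by
  obtain ⟨a, g, hg, H⟩ := H
  exact ⟨_, _, hg, H.shift S hσ⟩

theorem PP.zero (hc : h c c = 0) : PP σ h G c 0 := by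
  have hz : h (0 : V) c = 0 := S.zero_left c
  have ha : (0 : F) + σ 0 + h (0 : V) 0 = 0 := by rw [S.zero_left]; simp
  refine ⟨0, 1, G.one_mem, ?_⟩
  refine ⟨hc, hz, ha, fun x => ?_⟩
  simp [S.zero_right]

/-- From `P` to all parameters. -/
theorem PP.all (H : PP σ h G c u) (HZ : ZZ σ h G c) {a : F} {g : V ≃ₗ[F] V} (Hg : EichAt σ h c u a g) : g ∈ G := by
  obtain ⟨a', g', hg', H'⟩ := H
  have h1 : a - a' + σ (a - a') + h (0 : V) 0 = 0 := by
    have e1 := Hg.ha
    have e2 := H'.ha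
    rw [S.zero_left, map_sub]
    linear_combination e1 - e2
  have hz : h (0 : V) c = 0 := S.zero_left c
  obtain ⟨T, hT⟩ := exists_eichAt S Hg.ee hz h1
  have h2 := H'.mul S hT
  have h3 : a' + (a - a') - h 0 u = a := by
    rw [S.zero_left]; ring
  rw [add_zero, h3] at h2
  rw [eich_unique Hg h2]
  exact G.mul_mem hg' (HZ _ _ hT)

/-- The whole unipotent group from the vectors modulo the centre. -/
theorem uu_of (HZ : ZZ σ h G c) (hσ : Invol σ) (hperp : ∀ b, h b c = 0 → ∃ u, ∃ l : F, b = u + l • c ∧ PP σ h G c u) :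
    UU σ h G c := by
  intro b a g Hg
  obtain ⟨u, l, rfl, hu⟩ := hperp b Hg.we
  exact hu.all S HZ (Hg.shift S hσ)

omit S [FiniteDimensional F V] in
theorem UU.conj (hG : G ≤ uGroup h) {t : V ≃ₗ[F] V} (ht : t ∈ G) (H : UU σ h G c) : UU σ h G (t c) := by
  intro b a g Hg
  have h1 := Hg.conj (t := t⁻¹) ((uGroup h).inv_mem (hG ht))
  rw [inv_apply_self] at h1
  exact mul_mem_of_conj ht (H _ _ _ h1)

include hσ in
theorem UU.smul {l : F} (hl : l ≠ 0) (H : UU σ h G c) : UU σ h G (l • c) := by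
  intro b a g Hg
  exact H _ _ _ (Hg.smul_center S hσ hl)

include hσ in
theorem UU.of_smul {l : F} (hl : l ≠ 0) (H : UU σ h G (l • c)) : UU σ h G c := by
  have := UU.smul S hσ (inv_ne_zero hl) H
  rwa [smul_smul, inv_mul_cancel₀ hl, one_smul] at this

include hσ in
theorem RZ.conj (hG : G ≤ uGroup h) {t : V ≃ₗ[F] V} (ht : t ∈ G) {x' y' : V} {l m : F} (hl : l ≠ 0) (hm : m ≠ 0)
    (hx : t x = l • x') (hy : t y = m • y') (H : RZ σ h G x y) : RZ σ h G x' y' := by
  intro d g Hg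
  have e1 : t⁻¹ x' = l⁻¹ • x := by
    apply t.injective
    rw [apply_inv_self, map_smul, hx, smul_smul, inv_mul_cancel₀ hl, one_smul]
  have e2 : t⁻¹ y' = m⁻¹ • y := by
    apply t.injective
    rw [apply_inv_self, map_smul, hy, smul_smul, inv_mul_cancel₀ hm, one_smul]
  have h1 := Hg.conj (t := t⁻¹) ((uGroup h).inv_mem (hG ht))
  rw [e1, map_smul, e2] at h1
  have h2 := h1.smul_center S hσ (inv_ne_zero hl)
  rw [zero_mul, smul_smul, smul_smul] at h2
  exact mul_mem_of_conj ht (H _ _ h2)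

include hσ in
/-- Swapping the centre and the vector. -/
theorem eich_swap {d : F} {g : V ≃ₗ[F] V} (hx : h x x = 0) (H : EichAt σ h y (d • x) 0 g) :
    EichAt σ h x ((-σ d) • y) 0 g := by
  have h0 := H.we
  rw [S.smul_left] at h0
  have h1 : h y x = σ (h x y) := S.conj x y
  refine ⟨hx, ?_, ?_, fun z => ?_⟩
  · rw [S.smul_left, h1, neg_mul, ← map_mul, h0, map_zero, neg_zero]
  · simp only [S.smul_left, S.smul_right, H.ee, map_zero]
    ring
  · rw [H.apply]
    simp only [S.smul_right, map_neg, hσ.invol]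
    simp only [zero_mul, zero_smul, add_zero]
    module

include hσ in
theorem RZ.swap (hx : h x x = 0) (H : RZ σ h G x y) : RZ σ h G y x := by
  intro d g Hg
  exact H _ _ (eich_swap S hσ hx Hg)

include hσ in
/-- The commutator of two Eichler transformations with orthogonal centres. -/
theorem eich_comm {e e' w w' : V} {a a' : F} {A B : V ≃ₗ[F] V} (HA : EichAt σ h e' w' a' A) (HB : EichAt σ h e w a B)
    (h1 : h e e' = 0) (h2 : h w' e = 0) (h3 : h w e' = 0) :
    EichAt σ h e ((-h w w') • e') 0 (A * B * A⁻¹ * B⁻¹) := by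
  have e1 : A e = e := by
    rw [HA.apply, h1, S.zero_symm h2]
    simp
  have e2 : A w = w - h w w' • e' := by
    rw [HA.apply, h3]
    simp
  have H1 := HB.conj (HA.mem_uGroup S)
  rw [e1, e2] at H1
  have H3 := H1.mul S (HB.inv S hσ)
  have e3 : w - h w w' • e' + -w = (-h w w') • e' := by module
  have e4 : a + σ a - h (-w) (w - h w w' • e') = 0 := by
    have := HB.ha
    simp only [S.neg_left, S.sub_right, S.smul_right, h3, mul_zero, sub_zero]
    linear_combination this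
  rw [e3, e4] at H3
  exact H3

include hσ in
/-- Transvections from two orthogonal directions. -/
theorem zz_of_rz {e : V} (he : h e e = 0) (hx : h x x = 0) (hy : h y y = 0) (hxe : h x e = 0) (hye : h y e = 0)
    (hxy : h x y = 1) (H : RZ σ h G e x) (H' : RZ σ h G e y) : ZZ σ h G e := by
  intro κ g Hg
  have hκ : κ + σ κ = 0 := by
    have := Hg.ha
    rwa [S.zero_left, add_zero] at this
  have hyx : h y x = 1 := by
    rw [S.conj x y, hxy, map_one]
  obtain ⟨l, hl⟩ := hσ.exists_sub_eq (-κ) (by rw [map_neg]; linear_combination -hκ)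
  have z0 : (0 : F) + σ 0 = 0 := by simp
  obtain ⟨A₁, hA₁⟩ := exists_eichAt (w := l • x) (a := 0) S he (by rw [S.smul_left, hxe, mul_zero]) (by
    simp [S.smul_left, S.smul_right, hx])
  obtain ⟨A₂, hA₂⟩ := exists_eichAt (w := (1 : F) • y) (a := 0) S he (by rw [S.smul_left, hye, mul_zero]) (by
    simp [S.smul_left, S.smul_right, hy])
  have hA₁G := H _ _ hA₁
  have hA₂G := H' _ _ hA₂
  have P₁ := hA₁.mul S hA₂
  have P₂ := hA₂.mul S hA₁
  have P₃ := P₁.mul S (P₂.inv S hσ)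
  have e1 : l • x + (1 : F) • y + -((1 : F) • y + l • x) = 0 := by abel
  have e2 : (0 : F) + 0 - h ((1 : F) • y) (l • x) + (σ (0 + 0 - h (l • x) ((1 : F) • y))) -
      h (-((1 : F) • y + l • x)) (l • x + (1 : F) • y) = κ := by
    simp only [S.neg_left, S.add_left, S.add_right, S.smul_left, S.smul_right, hx, hy, hxy, hyx, map_one, map_zero,
      map_sub, map_neg, one_mul, mul_one, mul_zero, add_zero, zero_add, hσ.invol]
    linear_combination -hl
  rw [e1, e2] at P₃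
  rw [eich_unique Hg P₃]
  exact G.mul_mem (G.mul_mem hA₁G hA₂G) (G.inv_mem (G.mul_mem hA₂G hA₁G))

/-- Move the second member of a hyperbolic pair by an Eichler transformation of the given centre. -/
theorem exists_eich_move' (hσ : Invol σ) {e f f' : V} (H : IsHP h e f) (H' : IsHP h e f') :
    ∃ w a g, EichAt σ h e w a g ∧ g f = f' := by
  set α := h f' f with hα
  set w := f' - f - α • e with hw
  have hef := H.ef S
  have hef' := H'.ef S
  have hf'f : h f f' = σ α := S.conj f' f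
  have hwe : h w e = 0 := by
    rw [hw]
    simp only [S.sub_left, S.smul_left, H.ee, H.fe, H'.fe]
    ring
  have hww : α + σ α + h w w = 0 := by
    rw [hw]
    simp only [S.sub_left, S.sub_right, S.smul_left, S.smul_right, H.ee, H.ff, H'.ff, H.fe, H'.fe,
      hef, hef', hf'f, ← hα]
    ring
  obtain ⟨g, hg⟩ := exists_eichAt S H.ee hwe hww
  refine ⟨w, α, g, hg, ?_⟩
  rw [hg.apply]
  have hfw : h f w = 0 := by
    rw [hw]
    simp only [S.sub_right, S.smul_right, H.ff, hf'f, H.fe, ← hα]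
    ring
  rw [H.fe, hfw, hw]
  module

include hσ in
theorem uu_key (hG : G ≤ uGroup h) {e f : V} (H : IsHP h e f) (H1 : UU σ h G e) (H2 : UU σ h G f) :
    ∀ x, h x x = 0 → h x f ≠ 0 → UU σ h G x := by
  intro x hx hxf
  set l := h x f with hl
  have H3 : IsHP h f (l⁻¹ • x) := by
    refine ⟨H.ff, ?_, ?_⟩
    · simp [S.smul_left, S.smul_right, hx]
    · rw [S.smul_left, ← hl, inv_mul_cancel₀ hxf]
  obtain ⟨w, a, g, Hg, e1⟩ := exists_eich_move' S hσ H3 (IsHP.symm S H)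
  have hgG : g ∈ G := H2 _ _ _ Hg
  have e2 : g x = l • e := by
    rw [map_smul] at e1
    rw [← e1, smul_smul, mul_inv_cancel₀ hxf, one_smul]
  have H5 := UU.smul S hσ hxf H1
  rw [← e2] at H5
  have H6 := UU.conj hG (G.inv_mem hgG) H5
  rwa [inv_apply_self] at H6

include hσ in
/-- If the Eichler transformations of the two members of a hyperbolic pair belong to `G`, then all do. -/
theorem uu_of_pair (hG : G ≤ uGroup h) {e f : V} (H : IsHP h e f) (H1 : UU σ h G e) (H2 : UU σ h G f) :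
    ∀ x, x ≠ 0 → h x x = 0 → UU σ h G x := by
  have hef := H.ef S
  have key := uu_key S hσ hG H H1 H2
  have key' := uu_key S hσ hG (IsHP.symm S H) H2 H1
  intro x hx0 hx
  by_cases h1 : h x f = 0
  swap
  · exact key x hx h1
  by_cases h2 : h x e = 0
  swap
  · exact key' x hx h2
  have h3 : ∃ u ∈ perp2 S e f, h x u ≠ 0 := by
    by_contra hcon
    push Not at hcon
    exact hx0 (perp2_nd S H x ⟨h2, h1⟩ hcon)
  obtain ⟨u, hu, hxu⟩ := h3
  obtain ⟨s, hs⟩ := hσ.exists_trace (- h u u) (by rw [map_neg, S.self_fix])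
  have hs' : s + σ s + h u u = 0 := by rw [hs]; ring
  obtain ⟨E, hE⟩ := exists_eichAt S H.ee hu.1 hs'
  have hEG : E ∈ G := H1 _ _ _ hE
  have e1 : E x = x - h x u • e := by
    rw [hE.apply, h2]
    simp
  have h4 : h (E x) (E x) = 0 := by rw [hG hEG x x, hx]
  have h5 : h (E x) f ≠ 0 := by
    rw [e1, S.sub_left, S.smul_left, h1, hef]
    simpa using hxu
  have H6 := UU.conj hG (G.inv_mem hEG) (key _ h4 h5)
  rwa [inv_apply_self] at H6

include hσ in
theorem eGroup_le_of_pair (hG : G ≤ uGroup h) {e f : V} (H : IsHP h e f) (H1 : UU σ h G e) (H2 : UU σ h G f) :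
    eGroup σ h ≤ G := by
  rw [eGroup, Subgroup.closure_le]
  rintro g ⟨e', w, a, he', Hg⟩
  exact uu_of_pair S hσ hG H H1 H2 e' he' Hg.ee _ _ _ Hg

/-- A lift of a transposition of two hyperbolic pairs. -/
theorem swap_spec {e₀ f₀ e₁ f₁ : V} (H₀ : IsHP h e₀ f₀) (H₁ : IsHP h e₁ f₁) (a1 : h e₀ e₁ = 0) (a2 : h e₀ f₁ = 0)
    (a3 : h f₀ e₁ = 0) (a4 : h f₀ f₁ = 0) {g₁ g₂ : V ≃ₗ[F] V} (H1 : EichAt σ h e₀ f₁ 0 g₁)
    (H2 : EichAt σ h e₁ (-f₀) 0 g₂) :
    (g₁ * g₂ * g₁) e₀ = e₁ ∧ (g₁ * g₂ * g₁) e₁ = -e₀ ∧ (g₁ * g₂ * g₁) f₀ = f₁ ∧ (g₁ * g₂ * g₁) f₁ = -f₀ ∧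
      ∀ x, h x e₀ = 0 → h x f₀ = 0 → h x e₁ = 0 → h x f₁ = 0 → (g₁ * g₂ * g₁) x = x := by
  have p1 := H₀.ef S
  have p2 := H₁.ef S
  have p3 := H₀.fe
  have p4 := H₁.fe
  have q1 := S.zero_symm a1
  have q2 := S.zero_symm a2
  have q3 := S.zero_symm a3
  have q4 := S.zero_symm a4
  have s1 := H₀.ee
  have s2 := H₀.ff
  have s3 := H₁.ee
  have s4 := H₁.ff
  have A1 : ∀ z, g₁ z = z + h z e₀ • f₁ - h z f₁ • e₀ := by
    intro z
    rw [H1.apply]
    simp
  have A2 : ∀ z, g₂ z = z - h z e₁ • f₀ + h z f₀ • e₁ := by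
    intro z
    rw [H2.apply, S.neg_right]
    simp only [smul_neg, neg_smul, zero_mul, zero_smul, add_zero]
    abel
  have t1 : ∀ z, (g₁ * g₂ * g₁) z = g₁ (g₂ (g₁ z)) := fun _ => rfl
  refine ⟨?_, ?_, ?_, ?_, fun x h1 h2 h3 h4 => ?_⟩
  · rw [t1]
    simp only [A1, A2, map_add, map_sub, S.add_left, S.sub_left, S.smul_left, p1, p2, p3, p4, q1, q2, q3, q4, a1, a2, a3, a4,
      s1, s2, s3, s4, smul_eq_mul]
    module
  · rw [t1]
    simp only [A1, A2, map_add, map_sub, S.add_left, S.sub_left, S.smul_left, p1, p2, p3, p4, q1, q2, q3, q4, a1, a2, a3, a4,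
      s1, s2, s3, s4, smul_eq_mul]
    module
  · rw [t1]
    simp only [A1, A2, map_add, map_sub, S.add_left, S.sub_left, S.smul_left, p1, p2, p3, p4, q1, q2, q3, q4, a1, a2, a3, a4,
      s1, s2, s3, s4, smul_eq_mul]
    module
  · rw [t1]
    simp only [A1, A2, map_add, map_sub, S.add_left, S.sub_left, S.smul_left, p1, p2, p3, p4, q1, q2, q3, q4, a1, a2, a3, a4,
      s1, s2, s3, s4, smul_eq_mul]
    module
  · have f1 : g₁ x = x := by rw [A1, h1, h4]; simp
    have f2 : g₂ x = x := by rw [A2, h2, h3]; simp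
    rw [t1, f1, f2, f1]

/-- The Weyl element of a hyperbolic pair. -/
theorem nu_spec {e f : V} (H : IsHP h e f) {c : F} (hc0 : c ≠ 0) {τ₁ τ₂ : V ≃ₗ[F] V} (H1 : EichAt σ h f 0 (-c⁻¹) τ₁)
    (H2 : EichAt σ h e 0 c τ₂) : (τ₁ * τ₂ * τ₁) e = (-c⁻¹) • f ∧ (τ₁ * τ₂ * τ₁) f = c • e ∧
      ∀ x, h x e = 0 → h x f = 0 → (τ₁ * τ₂ * τ₁) x = x := by
  have p1 := H.ef S
  have p3 := H.fe
  have s1 := H.ee
  have s2 := H.ff
  have A1 : ∀ z, τ₁ z = z + (-c⁻¹ * h z f) • f := by
    intro z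
    rw [H1.apply]
    simp [S.zero_right]
  have A2 : ∀ z, τ₂ z = z + (c * h z e) • e := by
    intro z
    rw [H2.apply]
    simp [S.zero_right]
  have t1 : ∀ z, (τ₁ * τ₂ * τ₁) z = τ₁ (τ₂ (τ₁ z)) := fun _ => rfl
  have hi : c * c⁻¹ = 1 := mul_inv_cancel₀ hc0
  have c1 : τ₁ e = e + (-c⁻¹) • f := by rw [A1, p1, mul_one]
  have c2 : τ₁ f = f := by rw [A1, s2]; simp
  have c3 : τ₂ e = e := by rw [A2, s1]; simp
  have c4 : τ₂ f = f + c • e := by rw [A2, p3, mul_one]
  refine ⟨?_, ?_, fun x h1 h2 => ?_⟩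
  · rw [t1, c1]
    simp only [map_add, map_smul, c1, c2, c3, c4]
    linear_combination (norm := module) hi • (-e + (c⁻¹ • f))
  · rw [t1, c2, c4]
    simp only [map_add, map_smul, c1, c2, c3, c4]
    linear_combination (norm := module) (-hi) • f
  · have f1 : τ₁ x = x := by rw [A1, h2]; simp
    have f2 : τ₂ x = x := by rw [A2, h1]; simp
    rw [t1, f1, f2, f1]

theorem exists_nu {e f : V} (H : IsHP h e f) {c : F} (hσ : Invol σ) (hc0 : c ≠ 0) (hc : c + σ c = 0) :
    ∃ τ₁ τ₂, EichAt σ h f 0 (-c⁻¹) τ₁ ∧ EichAt σ h e 0 c τ₂ := by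
  have hd : -c⁻¹ + σ (-c⁻¹) + h (0 : V) 0 = 0 := by
    have h1 : σ c = -c := by linear_combination hc
    rw [S.zero_left]
    simp only [map_neg, map_inv₀, h1, inv_neg]
    ring
  have hd' : c + σ c + h (0 : V) 0 = 0 := by rw [S.zero_left, hc]; ring
  obtain ⟨τ₁, h1⟩ := exists_eichAt S H.ff (S.zero_left f) hd
  obtain ⟨τ₂, h2⟩ := exists_eichAt S H.ee (S.zero_left e) hd'
  exact ⟨τ₁, τ₂, h1, h2⟩

end calculus

/-- Additive groups stable under an element generating the field. -/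
theorem add_stable_eq_top {F : Type*} [Field F] [Fintype F] (A : AddSubgroup F) {β : F}
    (hβ : ∀ K : Subring F, β ∈ K → K = ⊤) (hA : ∀ c ∈ A, β * c ∈ A) {c₀ : F} (hc₀ : c₀ ∈ A) (hc : c₀ ≠ 0) : A = ⊤ := by
  let K : Subring F :=
    { carrier := {r | ∀ c ∈ A, r * c ∈ A}
      mul_mem' := fun {a b} ha hb c hc => by
        rw [mul_assoc]
        exact ha _ (hb _ hc)
      one_mem' := fun c hc => by rwa [one_mul]
      add_mem' := fun {a b} ha hb c hc => by
        rw [add_mul]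
        exact A.add_mem (ha _ hc) (hb _ hc)
      zero_mem' := fun c hc => by
        rw [zero_mul]
        exact A.zero_mem
      neg_mem' := fun {a} ha c hc => by
        rw [neg_mul]
        exact A.neg_mem (ha _ hc) }
  have hK : K = ⊤ := hβ K hA
  rw [eq_top_iff]
  intro x _
  have h1 : x / c₀ ∈ K := by rw [hK]; trivial
  have h2 := h1 c₀ hc₀
  rwa [div_mul_cancel₀ _ hc] at h2

end Cfsg.Agent.Lib.PSUTwo.Basic
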