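import Mathlib
import Cfsg.Agent.Lib.PSUTwo.Basic

/-!
Two generation of special unitary groups: two orthogonal hyperbolic pairs.
-/

set_option autoImplicit false
set_option linter.unusedSectionVars false
set_option linter.unusedVariables false
set_option linter.unusedSimpArgs false

namespace Cfsg.Agent.Lib.PSUTwo.Big

open Module Cfsg.Agent.Lib.Classical.HermBasic Cfsg.Agent.Lib.Classical.HermElem Cfsg.Agent.Lib.Classical.HermGen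
open Cfsg.Agent.Lib.PSUTwo.Basic

universe u v

variable {F : Type u} [Field F] {V : Type v} [AddCommGroup V] [Module F V]
variable {σ : F →+* F} {h : V → V → F}

/-- Two orthogonal hyperbolic pairs. -/
structure Pairs (h : V → V → F) (e₀ f₀ e₁ f₁ : V) : Prop where
  H₀ : IsHP h e₀ f₀
  H₁ : IsHP h e₁ f₁
  a1 : h e₀ e₁ = 0
  a2 : h e₀ f₁ = 0
  a3 : h f₀ e₁ = 0
  a4 : h f₀ f₁ = 0

/-- The vectors orthogonal to the two pairs. -/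
def Pp (h : V → V → F) (e₀ f₀ e₁ f₁ x : V) : Prop :=
  h x e₀ = 0 ∧ h x f₀ = 0 ∧ h x e₁ = 0 ∧ h x f₁ = 0

variable {e₀ f₀ e₁ f₁ : V} {G : Subgroup (V ≃ₗ[F] V)}

section setup

variable [Finite F] [FiniteDimensional F V] (S : HForm σ h) (hσ : Invol σ) (P : Pairs h e₀ f₀ e₁ f₁)

include S P

/-- The decomposition of a vector. -/
theorem perp_part (x : V) :
    Pp h e₀ f₀ e₁ f₁ (x - h x f₀ • e₀ - h x e₀ • f₀ - h x f₁ • e₁ - h x e₁ • f₁) := by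
  obtain ⟨H₀, H₁, a1, a2, a3, a4⟩ := P
  have p1 := H₀.ef S
  have p2 := H₁.ef S
  have p3 := H₀.fe
  have p4 := H₁.fe
  have q1 := S.zero_symm a1
  have q2 := S.zero_symm a2
  have q3 := S.zero_symm a3
  have q4 := S.zero_symm a4
  have s1 := H₀.ee
  have s2 := H₀.ff
  have s3 := H₁.ee
  have s4 := H₁.ff
  refine ⟨?_, ?_, ?_, ?_⟩ <;>
  · simp only [S.sub_left, S.smul_left, p1, p2, p3, p4, q1, q2, q3, q4, a1, a2, a3, a4, s1, s2, s3, s4]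
    ring

/-- Extensionality. -/
theorem ext4 {g₁ g₂ : V ≃ₗ[F] V} (h1 : g₁ e₀ = g₂ e₀) (h2 : g₁ f₀ = g₂ f₀) (h3 : g₁ e₁ = g₂ e₁) (h4 : g₁ f₁ = g₂ f₁)
    (h5 : ∀ x, Pp h e₀ f₀ e₁ f₁ x → g₁ x = g₂ x) : g₁ = g₂ := by
  ext1 x
  have e1 := h5 _ (perp_part S P x)
  simp only [map_sub, map_smul, h1, h2, h3, h4] at e1
  have e2 : g₁ x - (h x f₀ • g₂ e₀ + h x e₀ • g₂ f₀ + h x f₁ • g₂ e₁ + h x e₁ • g₂ f₁) =
      g₂ x - (h x f₀ • g₂ e₀ + h x e₀ • g₂ f₀ + h x f₁ • g₂ e₁ + h x e₁ • g₂ f₁) := by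
    rw [← sub_eq_zero]
    rw [← sub_eq_zero] at e1
    rw [← e1]
    abel
  exact sub_left_inj.1 e2

include hσ

/-- A cyclic permutation of the four vectors. -/
theorem exists_w1 {c : F} (hc0 : c ≠ 0) (hc : c + σ c = 0) :
    ∃ w₁ ∈ eGroup σ h, w₁ e₀ = e₁ ∧ w₁ e₁ = c⁻¹ • f₀ ∧ w₁ f₀ = f₁ ∧ w₁ f₁ = (-c) • e₀ ∧
      ∀ x, Pp h e₀ f₀ e₁ f₁ x → w₁ x = x := by
  obtain ⟨H₀, H₁, a1, a2, a3, a4⟩ := id P
  have he0 := H₀.ne_left S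
  have hz1 : h f₁ e₀ = 0 := S.zero_symm a2
  have hz2 : h (-f₀) e₁ = 0 := by rw [S.neg_left, a3, neg_zero]
  have hz3 : (0 : F) + σ 0 + h f₁ f₁ = 0 := by rw [H₁.ff]; simp
  have hz4 : (0 : F) + σ 0 + h (-f₀) (-f₀) = 0 := by simp [S.neg_left, S.neg_right, H₀.ff]
  obtain ⟨g₁, hg₁⟩ := exists_eichAt S H₀.ee hz1 hz3
  obtain ⟨g₂, hg₂⟩ := exists_eichAt S H₁.ee hz2 hz4
  obtain ⟨n1, n2, n3, n4, n5⟩ := swap_spec S H₀ H₁ a1 a2 a3 a4 hg₁ hg₂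
  obtain ⟨τ₁, τ₂, h1, h2⟩ := exists_nu S H₀ hσ hc0 hc
  obtain ⟨v1, v2, v3⟩ := nu_spec S H₀ hc0 h1 h2
  set n := g₁ * g₂ * g₁ with hn
  set ν := τ₁ * τ₂ * τ₁ with hν
  have hnE : n ∈ eGroup σ h :=
    mul_mem (mul_mem (mem_eGroup_of_eichAt he0 hg₁) (mem_eGroup_of_eichAt (H₁.ne_left S) hg₂))
      (mem_eGroup_of_eichAt he0 hg₁)
  have hνE : ν ∈ eGroup σ h :=
    mul_mem (mul_mem (mem_eGroup_of_eichAt (H₀.ne_right S) h1) (mem_eGroup_of_eichAt he0 h2))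
      (mem_eGroup_of_eichAt (H₀.ne_right S) h1)
  have r1 : ν e₁ = e₁ := v3 _ (S.zero_symm a1) (S.zero_symm a3)
  have r2 : ν f₁ = f₁ := v3 _ (S.zero_symm a2) (S.zero_symm a4)
  refine ⟨ν * n, mul_mem hνE hnE, ?_, ?_, ?_, ?_, fun x hx => ?_⟩
  · show ν (n e₀) = _
    rw [n1, r1]
  · show ν (n e₁) = _
    rw [n2, map_neg, v1]
    simp
  · show ν (n f₀) = _
    rw [n3, r2]
  · show ν (n f₁) = _
    rw [n4, map_neg, v2]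
    simp
  · obtain ⟨x1, x2, x3, x4⟩ := hx
    show ν (n x) = _
    rw [n5 x x1 x2 x3 x4, v3 x x1 x2]

/-- The torus element with two eigenvalues. -/
theorem exists_tau2 {α : F} (hα : α ≠ 0) (hn : σ α = α⁻¹) :
    ∃ τ ∈ eGroup σ h, τ e₀ = α⁻¹ • e₀ ∧ τ f₀ = α⁻¹ • f₀ ∧ τ e₁ = α • e₁ ∧ τ f₁ = α • f₁ ∧
      ∀ x, Pp h e₀ f₀ e₁ f₁ x → τ x = x := by
  obtain ⟨H₀, H₁, a1, a2, a3, a4⟩ := id P
  obtain ⟨D₀, hD₀⟩ := exists_dAt S hσ H₀ (inv_ne_zero hα)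
  obtain ⟨D₁, hD₁⟩ := exists_dAt S hσ H₁ hα
  have hs : σ α⁻¹ = α := by rw [map_inv₀, hn, inv_inv]
  have hmem : D₀ * D₁ ∈ suGroup h := by
    rw [mem_suGroup]
    refine ⟨mul_mem (hD₀.mem_uGroup S hσ) (hD₁.mem_uGroup S hσ), ?_⟩
    rw [dt_mul, hD₀.det S, hD₁.det S, hs, hn]
    field_simp
  rw [suGroup_eq_eGroup hσ S] at hmem
  have r0 := hD₀.apply_left S
  have r1 := hD₀.apply_right S
  have r2 := hD₁.apply_left S
  have r3 := hD₁.apply_right S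
  rw [hs] at r1
  rw [hn, inv_inv] at r3
  refine ⟨D₀ * D₁, hmem, ?_, ?_, ?_, ?_, fun x hx => ?_⟩
  · show D₀ (D₁ e₀) = _
    rw [hD₁.apply_orth a1 a2, r0]
  · show D₀ (D₁ f₀) = _
    rw [hD₁.apply_orth a3 a4, r1]
  · show D₀ (D₁ e₁) = _
    rw [r2, map_smul, hD₀.apply_orth (S.zero_symm a1) (S.zero_symm a3)]
  · show D₀ (D₁ f₁) = _
    rw [r3, map_smul, hD₀.apply_orth (S.zero_symm a2) (S.zero_symm a4)]
  · obtain ⟨x1, x2, x3, x4⟩ := hx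
    show D₀ (D₁ x) = _
    rw [hD₁.apply_orth x3 x4, hD₀.apply_orth x1 x2]

end setup

end Cfsg.Agent.Lib.PSUTwo.Big
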