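import Mathlib
import Cfsg.Agent.Lib.PSUTwo.Big

/-!
Two generation of special unitary groups: the generic argument in dimension at least five.
-/

set_option autoImplicit false
set_option linter.unusedSectionVars false
set_option linter.unusedVariables false
set_option linter.unusedSimpArgs false

namespace Cfsg.Agent.Lib.PSUTwo.BigGen

open Module Cfsg.Agent.Lib.Classical.HermBasic Cfsg.Agent.Lib.Classical.HermElem Cfsg.Agent.Lib.Classical.HermGen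
open Cfsg.Agent.Lib.PSUTwo.Basic Cfsg.Agent.Lib.PSUTwo.Big

universe u v

variable {F : Type u} [Field F] {V : Type v} [AddCommGroup V] [Module F V]
variable {σ : F →+* F} {h : V → V → F}

variable {e₀ f₀ e₁ f₁ : V} {G : Subgroup (V ≃ₗ[F] V)}

variable [Finite F] [FiniteDimensional F V]

theorem uGroup_of_eGroup (S : HForm σ h) : eGroup σ h ≤ uGroup h := fun _ hg =>
  (mem_suGroup.1 (eGroup_le_suGroup S hg)).1

/-- The end of the argument: enough root elements give all of the group. -/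
theorem finish (S : HForm σ h) (hσ : Invol σ) (P : Pairs h e₀ f₀ e₁ f₁) (hG : G ≤ uGroup h) {w : V ≃ₗ[F] V}
    (hw : w ∈ G) {c : F} (hc0 : c ≠ 0) (h1 : w e₀ = e₁) (h2 : w e₁ = c⁻¹ • f₀)
    (R1 : RZ σ h G e₀ e₁) (R2 : RZ σ h G e₀ f₁) (Hp : ∀ x, Pp h e₀ f₀ e₁ f₁ x → PP σ h G e₀ x) :
    eGroup σ h ≤ G := by
  obtain ⟨H₀, H₁, a1, a2, a3, a4⟩ := id P
  have HZ : ZZ σ h G e₀ :=
    zz_of_rz (x := e₁) (y := f₁) S hσ H₀.ee H₁.ee H₁.ff (S.zero_symm a1) (S.zero_symm a2) (H₁.ef S) R1 R2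
  have U0 : UU σ h G e₀ := by
    refine uu_of S HZ hσ fun b hb => ?_
    have hx' := perp_part S P b
    rw [hb, zero_smul, sub_zero] at hx'
    refine ⟨(b - h b f₀ • e₀ - h b f₁ • e₁ - h b e₁ • f₁) + (h b f₁ • e₁ + h b e₁ • f₁), h b f₀, by abel, ?_⟩
    have hw1 : h (h b f₁ • e₁) e₀ = 0 := by rw [S.smul_left, S.zero_symm a1, mul_zero]
    have hw2 : h (h b e₁ • f₁) e₀ = 0 := by rw [S.smul_left, S.zero_symm a2, mul_zero]
    have ha1 : (0 : F) + σ 0 + h (h b f₁ • e₁) (h b f₁ • e₁) = 0 := by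
      simp [S.smul_left, S.smul_right, H₁.ee]
    have ha2 : (0 : F) + σ 0 + h (h b e₁ • f₁) (h b e₁ • f₁) = 0 := by
      simp [S.smul_left, S.smul_right, H₁.ff]
    obtain ⟨g1, hg1⟩ := exists_eichAt S H₀.ee hw1 ha1
    obtain ⟨g2, hg2⟩ := exists_eichAt S H₀.ee hw2 ha2
    refine PP.add S (Hp _ hx') (PP.add S ⟨0, g1, R1 _ _ hg1, hg1⟩ ⟨0, g2, R2 _ _ hg2, hg2⟩)
  have U1 := UU.conj hG hw U0
  rw [h1] at U1
  have U2 := UU.conj hG hw U1
  rw [h2] at U2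
  have U3 := UU.of_smul S hσ (inv_ne_zero hc0) U2
  exact eGroup_le_of_pair S hσ hG H₀ U0 U3

/-- Isometries fixing the four vectors preserve `Pp`. -/
theorem pp_of_fix {w : V ≃ₗ[F] V} (hw : w ∈ uGroup h) (h1 : w e₀ = e₀) (h2 : w f₀ = f₀) (h3 : w e₁ = e₁)
    (h4 : w f₁ = f₁) {x : V} (hx : Pp h e₀ f₀ e₁ f₁ x) : Pp h e₀ f₀ e₁ f₁ (w x) := by
  obtain ⟨x1, x2, x3, x4⟩ := hx
  refine ⟨?_, ?_, ?_, ?_⟩
  · rw [← h1, hw x e₀, x1]
  · rw [← h2, hw x f₀, x2]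
  · rw [← h3, hw x e₁, x3]
  · rw [← h4, hw x f₁, x4]

theorem big_two_gen (S : HForm σ h) (hσ : Invol σ) (P : Pairs h e₀ f₀ e₁ f₁) {α : F} (hα0 : α ≠ 0) (hα1 : α ≠ 1)
    (hn : σ α = α⁻¹) (hβ : ∀ K : Subring F, α⁻¹ ∈ K → K = ⊤) [Fintype F] {w₂ : V ≃ₗ[F] V} (hw₂ : w₂ ∈ eGroup σ h)
    (w₂1 : w₂ e₀ = e₀) (w₂2 : w₂ f₀ = f₀) (w₂3 : w₂ e₁ = e₁) (w₂4 : w₂ f₁ = f₁) {v : V} (hv : Pp h e₀ f₀ e₁ f₁ v)
    (hvw : h v (w₂ v) ≠ 0)
    (cyc : ∀ M : Submodule F V, v ∈ M → (∀ y ∈ M, Pp h e₀ f₀ e₁ f₁ y → w₂ y ∈ M) → ∀ x, Pp h e₀ f₀ e₁ f₁ x → x ∈ M) :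
    ∃ a b, Subgroup.closure {a, b} = eGroup σ h := by
  obtain ⟨H₀, H₁, a1, a2, a3, a4⟩ := id P
  have he₀ := H₀.ne_left S
  have hE := uGroup_of_eGroup (h := h) (σ := σ) S
  obtain ⟨c, hc0, hc⟩ := hσ.exists_pure
  obtain ⟨w₁, hw₁, w1, w2, w3, w4, w5⟩ := exists_w1 S hσ P hc0 hc
  obtain ⟨τ, hτ, t1, t2, t3, t4, t5⟩ := exists_tau2 S hσ P hα0 hn
  set w := w₁ * w₂ with hwdef
  have hwE : w ∈ eGroup σ h := mul_mem hw₁ hw₂
  have W1 : w e₀ = e₁ := by show w₁ (w₂ e₀) = _; rw [w₂1, w1]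
  have W2 : w e₁ = c⁻¹ • f₀ := by show w₁ (w₂ e₁) = _; rw [w₂3, w2]
  have W3 : w f₀ = f₁ := by show w₁ (w₂ f₀) = _; rw [w₂2, w3]
  have W4 : w f₁ = (-c) • e₀ := by show w₁ (w₂ f₁) = _; rw [w₂4, w4]
  have hw₂pp : ∀ {x}, Pp h e₀ f₀ e₁ f₁ x → Pp h e₀ f₀ e₁ f₁ (w₂ x) := fun hx =>
    pp_of_fix (hE hw₂) w₂1 w₂2 w₂3 w₂4 hx
  have W5 : ∀ x, Pp h e₀ f₀ e₁ f₁ x → w x = w₂ x := fun x hx => by
    show w₁ (w₂ x) = _
    rw [w5 _ (hw₂pp hx)]
  -- the inverse of the torus element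
  have ti1 : τ⁻¹ e₀ = α • e₀ := by
    apply τ.injective
    rw [apply_inv_self, map_smul, t1, smul_smul, mul_inv_cancel₀ hα0, one_smul]
  have ti2 : τ⁻¹ f₀ = α • f₀ := by
    apply τ.injective
    rw [apply_inv_self, map_smul, t2, smul_smul, mul_inv_cancel₀ hα0, one_smul]
  have ti3 : τ⁻¹ e₁ = α⁻¹ • e₁ := by
    apply τ.injective
    rw [apply_inv_self, map_smul, t3, smul_smul, inv_mul_cancel₀ hα0, one_smul]
  have ti4 : τ⁻¹ f₁ = α⁻¹ • f₁ := by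
    apply τ.injective
    rw [apply_inv_self, map_smul, t4, smul_smul, inv_mul_cancel₀ hα0, one_smul]
  have ti5 : ∀ x, Pp h e₀ f₀ e₁ f₁ x → τ⁻¹ x = x := fun x hx => by
    apply τ.injective
    rw [apply_inv_self, t5 x hx]
  have hcomm : w * τ = τ⁻¹ * w := by
    refine ext4 S P ?_ ?_ ?_ ?_ ?_
    · show w (τ e₀) = τ⁻¹ (w e₀)
      rw [t1, map_smul, W1, ti3]
    · show w (τ f₀) = τ⁻¹ (w f₀)
      rw [t2, map_smul, W3, ti4]
    · show w (τ e₁) = τ⁻¹ (w e₁)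
      rw [t3, map_smul, W2, map_smul, ti2, smul_smul, smul_smul, mul_comm]
    · show w (τ f₁) = τ⁻¹ (w f₁)
      rw [t4, map_smul, W4, map_smul, ti1, smul_smul, smul_smul, mul_comm]
    · intro x hx
      show w (τ x) = τ⁻¹ (w x)
      rw [t5 x hx, W5 x hx, ti5 _ (hw₂pp hx)]
  obtain ⟨v1, v2, v3, v4⟩ := id hv
  have hve₀ : h e₀ v = 0 := S.zero_symm v1
  have hve₁ : h e₁ v = 0 := S.zero_symm v3
  have hvf₀ : h f₀ v = 0 := S.zero_symm v2
  have hvf₁ : h f₁ v = 0 := S.zero_symm v4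
  obtain ⟨a₀, ha₀⟩ := hσ.exists_trace (- h v v) (by rw [map_neg, S.self_fix])
  have ha₀' : a₀ + σ a₀ + h v v = 0 := by rw [ha₀]; ring
  obtain ⟨y, hy⟩ := exists_eichAt S H₀.ee v1 ha₀'
  have hyE : y ∈ eGroup σ h := mem_eGroup_of_eichAt he₀ hy
  set G := Subgroup.closure {w * y, τ} with hGdef
  have ha : w * y ∈ G := Subgroup.subset_closure (by simp)
  have hb : τ ∈ G := Subgroup.subset_closure (by simp)
  have hGE : G ≤ eGroup σ h := by
    rw [hGdef, Subgroup.closure_le]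
    rintro g (rfl | rfl)
    · exact mul_mem hwE hyE
    · exact hτ
  have hG : G ≤ uGroup h := hGE.trans hE
  refine ⟨w * y, τ, le_antisymm hGE ?_⟩
  set a := w * y with hadef
  set v₁ := w v with hv₁
  have hv₁pp : Pp h e₀ f₀ e₁ f₁ v₁ := by
    rw [hv₁, W5 v hv]
    exact hw₂pp hv
  -- step 1
  have hστ : α * σ α = 1 := by rw [hn, mul_inv_cancel₀ hα0]
  have Y1 : PP σ h G e₁ ((α⁻¹ - 1) • v₁) := by
    have A1 := hy.conj (t := τ⁻¹) ((uGroup h).inv_mem (hG hb))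
    rw [ti1, ti5 v hv] at A1
    have A2 := A1.smul_center S hσ hα0
    rw [hστ, mul_one, hn] at A2
    have A3 := A2.mul S (hy.inv S hσ)
    have A4 := A3.conj (hE hwE)
    rw [W1, map_add, map_smul, map_neg, ← hv₁] at A4
    have e1 : α⁻¹ • v₁ + -v₁ = (α⁻¹ - 1) • v₁ := by module
    rw [e1] at A4
    refine ⟨_, _, ?_, A4⟩
    have e2 : w * (τ⁻¹ * y * τ⁻¹⁻¹ * y⁻¹) * w⁻¹ = τ * a * τ * a⁻¹ := by
      have e3 : w * τ⁻¹ = τ * w := by
        have h9 : τ * (w * τ) * τ⁻¹ = τ * (τ⁻¹ * w) * τ⁻¹ := by rw [hcomm]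
        have e5 : τ * (w * τ) * τ⁻¹ = τ * w := by group
        have e4 : τ * (τ⁻¹ * w) * τ⁻¹ = w * τ⁻¹ := by group
        rw [e5, e4] at h9
        exact h9.symm
      rw [hadef, ← mul_assoc, ← mul_assoc, ← mul_assoc, e3]
      group
    rw [e2]
    exact G.mul_mem (G.mul_mem (G.mul_mem hb ha) hb) (G.inv_mem ha)
  -- step 2
  let A : AddSubgroup F :=
    { carrier := {d | PP σ h G e₁ (d • v₁)}
      add_mem' := fun {x y} hx hy => by
        show PP σ h G e₁ ((x + y) • v₁)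
        rw [add_smul]
        exact PP.add S hx hy
      zero_mem' := by
        show PP σ h G e₁ ((0 : F) • v₁)
        rw [zero_smul]
        exact PP.zero S H₁.ee
      neg_mem' := fun {x} hx => by
        show PP σ h G e₁ ((-x) • v₁)
        rw [neg_smul]
        exact PP.neg S hσ hx }
  have hαne : α⁻¹ - 1 ≠ 0 := by
    intro hcon
    apply hα1
    have h9 : α⁻¹ = 1 := by linear_combination hcon
    rw [← inv_inv α, h9, inv_one]
  have hAtop : A = ⊤ := by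
    refine add_stable_eq_top A hβ (fun d hd => ?_) (c₀ := α⁻¹ - 1) Y1 hαne
    have B1 := PP.conj hG hb (show PP σ h G e₁ (d • v₁) from hd)
    rw [t3, map_smul, t5 _ hv₁pp] at B1
    have B2 := PP.center S hσ hα0 B1
    rw [hn, smul_smul] at B2
    exact B2
  have Y2 : ∀ d : F, PP σ h G e₁ (d • v₁) := fun d => by
    have h9 : d ∈ A := by rw [hAtop]; trivial
    exact h9
  -- step 3
  have he₀y : y e₀ = e₀ := by
    rw [hy.apply, H₀.ee, hve₀]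
    simp
  have hyv : y v = v - h v v • e₀ := by
    rw [hy.apply, v1]
    simp
  have Ae0 : a e₀ = e₁ := by
    show w (y e₀) = _
    rw [he₀y, W1]
  have Av : a (v + h v v • e₀) = v₁ := by
    show w (y (v + h v v • e₀)) = w v
    rw [map_add, map_smul, hyv, he₀y, sub_add_cancel]
  have ai1 : a⁻¹ e₁ = e₀ := by rw [← Ae0]; exact inv_apply_self a e₀
  have ai2 : a⁻¹ v₁ = v + h v v • e₀ := by rw [← Av]; exact inv_apply_self a _
  have Y3 : ∀ d : F, PP σ h G e₀ (d • v) := fun d => by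
    have B := PP.conj hG (G.inv_mem ha) (Y2 d)
    rw [ai1, map_smul, ai2, smul_add, smul_smul] at B
    exact PP.shift S hσ B
  -- step 4
  have hvv₁ : h v v₁ ≠ 0 := by
    rw [hv₁, W5 v hv]
    exact hvw
  have R1 : RZ σ h G e₀ e₁ := by
    intro d g Hg
    set m := σ (-d / h v v₁) with hm
    have hm' : σ m = -d / h v v₁ := by rw [hm, hσ.invol]
    obtain ⟨aa, A', hA', HA⟩ := Y2 m
    obtain ⟨bb, B', hB', HB⟩ := Y3 1
    have hz1 : h (m • v₁) e₀ = 0 := by rw [S.smul_left, hv₁pp.1, mul_zero]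
    have hz2 : h ((1 : F) • v) e₁ = 0 := by rw [S.smul_left, v3, mul_zero]
    have C := eich_comm S hσ HA HB a1 hz1 hz2
    have e1 : -h ((1 : F) • v) (m • v₁) = d := by
      rw [S.smul_left, S.smul_right, hm']
      field_simp
    rw [e1] at C
    rw [eich_unique Hg C]
    exact G.mul_mem (G.mul_mem (G.mul_mem hA' hB') (G.inv_mem hA')) (G.inv_mem hB')
  -- step 5
  have hyf₁ : y f₁ = f₁ := by
    rw [hy.apply, S.zero_symm a2, hvf₁]
    simp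
  have Af1 : a f₁ = (-c) • e₀ := by
    show w (y f₁) = _
    rw [hyf₁, W4]
  have hcneg : -c ≠ 0 := neg_ne_zero.2 hc0
  have R' : RZ σ h G f₁ e₀ := by
    refine RZ.conj S hσ hG (G.inv_mem ha) (l := (-c)⁻¹) (m := 1) (inv_ne_zero hcneg) one_ne_zero ?_ ?_ R1
    · apply a.injective
      rw [apply_inv_self, map_smul, Af1, smul_smul, inv_mul_cancel₀ hcneg, one_smul]
    · rw [ai1, one_smul]
  have R2 : RZ σ h G e₀ f₁ := RZ.swap S hσ H₁.ff R'
  -- step 6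
  have HZ : ZZ σ h G e₀ :=
    zz_of_rz (x := e₁) (y := f₁) S hσ H₀.ee H₁.ee H₁.ff (S.zero_symm a1) (S.zero_symm a2) (H₁.ef S) R1 R2
  have hyG : y ∈ G := by
    have B := Y3 1
    rw [one_smul] at B
    exact B.all S HZ hy
  have hwG : w ∈ G := by
    have h9 : w = a * y⁻¹ := by rw [hadef]; group
    rw [h9]
    exact G.mul_mem ha (G.inv_mem hyG)
  -- step 8
  have R3 : RZ σ h G e₁ f₀ :=
    RZ.conj S hσ hG hwG (l := 1) (m := c⁻¹) one_ne_zero (inv_ne_zero hc0) (by rw [W1, one_smul]) W2 R1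
  -- step 9
  have hz3 : h f₁ e₀ = 0 := S.zero_symm a2
  have hz4 : h (-f₀) e₁ = 0 := by rw [S.neg_left, a3, neg_zero]
  have hz5 : (0 : F) + σ 0 + h f₁ f₁ = 0 := by rw [H₁.ff]; simp
  have hz6 : (0 : F) + σ 0 + h (-f₀) (-f₀) = 0 := by simp [S.neg_left, S.neg_right, H₀.ff]
  obtain ⟨g₁, hg₁⟩ := exists_eichAt S H₀.ee hz3 hz5
  obtain ⟨g₂, hg₂⟩ := exists_eichAt S H₁.ee hz4 hz6
  obtain ⟨n1, n2, n3, n4, n5⟩ := swap_spec S H₀ H₁ a1 a2 a3 a4 hg₁ hg₂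
  have hg₁G : g₁ ∈ G := R2 1 g₁ (by rw [one_smul]; exact hg₁)
  have hg₂G : g₂ ∈ G := R3 (-1) g₂ (by rw [neg_one_smul]; exact hg₂)
  have hnG : g₁ * g₂ * g₁ ∈ G := G.mul_mem (G.mul_mem hg₁G hg₂G) hg₁G
  -- step 10
  let M' : Submodule F V :=
    { carrier := {u | ∀ d : F, PP σ h G e₀ (d • u)}
      add_mem' := fun {x y} hx hy d => by
        rw [smul_add]
        exact PP.add S (hx d) (hy d)
      zero_mem' := fun d => by
        rw [smul_zero]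
        exact PP.zero S H₀.ee
      smul_mem' := fun r x hx d => by
        rw [smul_smul]
        exact hx _ }
  have hM1 : v ∈ M' := Y3
  have hM2 : ∀ y ∈ M', Pp h e₀ f₀ e₁ f₁ y → w₂ y ∈ M' := by
    intro z hz hzp d
    set t := g₁ * g₂ * g₁ * w with ht
    have htG : t ∈ G := G.mul_mem hnG hwG
    have te₀ : t e₀ = (-1 : F) • e₀ := by
      show (g₁ * g₂ * g₁) (w e₀) = _
      rw [W1, n2, neg_one_smul]
    have tz : t z = w₂ z := by
      show (g₁ * g₂ * g₁) (w z) = _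
      rw [W5 z hzp]
      obtain ⟨p1, p2, p3, p4⟩ := hw₂pp hzp
      exact n5 _ p1 p2 p3 p4
    have B := PP.conj hG htG (hz (-d))
    rw [te₀, map_smul, tz] at B
    have B2 := PP.center S hσ (neg_ne_zero.2 one_ne_zero) B
    rw [map_neg, map_one, smul_smul] at B2
    simpa using B2
  refine finish S hσ P hG hwG hc0 W1 W2 R1 R2 (fun x hx => ?_)
  have B := cyc M' hM1 hM2 x hx 1
  rwa [one_smul] at B

end Cfsg.Agent.Lib.PSUTwo.BigGen
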