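import Mathlib
import Cfsg.Agent.Lib.PSUTwo.BigGen

/-!
Two generation of special unitary groups: an element of the Eichler group with a cyclic vector.
-/

set_option autoImplicit false
set_option linter.unusedSectionVars false
set_option linter.unusedVariables false
set_option linter.unusedSimpArgs false
set_option linter.style.haveILetI false

namespace Cfsg.Agent.Lib.PSUTwo.Cyc

open Module Cfsg.Agent.Lib.Classical.HermBasic Cfsg.Agent.Lib.Classical.HermElem Cfsg.Agent.Lib.Classical.HermGen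
open Cfsg.Agent.Lib.PSUTwo.Basic Cfsg.Agent.Lib.PSUTwo.Big

universe u v

variable {F : Type u} [Field F] {σ : F →+* F}

variable [Finite F]

/-- An element of the Eichler group with a cyclic vector. -/
theorem exists_cyc (hσ : Invol σ) : ∀ (n : ℕ) (V : Type v) [AddCommGroup V] [Module F V] [FiniteDimensional F V]
    (h : V → V → F), HForm σ h → finrank F V = n → 1 ≤ n →
    ∃ w ∈ eGroup σ h, ∃ v : V, h v (w v) ≠ 0 ∧ ∀ M : Submodule F V, v ∈ M → (∀ y ∈ M, w y ∈ M) → M = ⊤ := by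
  intro n
  induction n using Nat.strong_induction_on with
  | _ n ih =>
  intro V _ _ _ h S hn hn1
  obtain ⟨c, hc0, hc⟩ := hσ.exists_pure
  have hcσ : σ (-c⁻¹) ≠ 0 := by simpa using hc0
  rcases (by omega : n = 1 ∨ n = 2 ∨ 3 ≤ n) with h1 | h2 | h3
  · -- dimension 1
    subst h1
    haveI : Nontrivial V := Module.nontrivial_of_finrank_pos (R := F) (by omega)
    obtain ⟨x₀, hx₀⟩ := exists_ne (0 : V)
    obtain ⟨v, hv⟩ := S.exists_nonisotropic hσ hx₀
    have hv0 : v ≠ 0 := by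
      rintro rfl
      exact hv (S.zero_left _)
    have hspan := (finrank_eq_one_iff_of_nonzero' v hv0).1 hn
    refine ⟨1, one_mem _, v, hv, fun M hM _ => ?_⟩
    rw [eq_top_iff]
    intro x _
    obtain ⟨d, rfl⟩ := hspan x
    exact M.smul_mem d hM
  · -- dimension 2
    subst h2
    obtain ⟨e, f, H⟩ := exists_hp S hσ (by omega)
    obtain ⟨τ₁, τ₂, h1, h2⟩ := exists_nu S H hσ hc0 hc
    obtain ⟨v1, v2, v3⟩ := nu_spec S H hc0 h1 h2
    refine ⟨τ₁ * τ₂ * τ₁, mul_mem (mul_mem (mem_eGroup_of_eichAt (H.ne_right S) h1) (mem_eGroup_of_eichAt (H.ne_left S) h2))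
      (mem_eGroup_of_eichAt (H.ne_right S) h1), e, ?_, fun M hM hinv => ?_⟩
    · rw [v1, S.smul_right, H.ef S, mul_one]
      exact hcσ
    · have h3 := hinv e hM
      rw [v1] at h3
      have h4 : f ∈ M := by
        have := M.smul_mem (-c⁻¹)⁻¹ h3
        rwa [smul_smul, inv_mul_cancel₀ (by simpa using hc0), one_smul] at this
      rw [eq_top_iff]
      intro x _
      rw [dim2_span S hσ hn H x]
      exact M.add_mem (M.smul_mem _ hM) (M.smul_mem _ h4)
  · -- dimension at least three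
    obtain ⟨e, f, H⟩ := exists_hp S hσ (by omega)
    have hfr := finrank_perp2 S H
    obtain ⟨w_R, hw_R, u, hu, hcyc⟩ :=
      ih (n - 2) (by omega) (perp2 S e f) (fun a b => h a b) (restrict S H) (by omega) (by omega)
    obtain ⟨w', hw', w'1, w'2, w'3⟩ := ext_eGroup S hσ H hw_R
    obtain ⟨τ₁, τ₂, h1, h2⟩ := exists_nu S H hσ hc0 hc
    obtain ⟨v1, v2, v3⟩ := nu_spec S H hc0 h1 h2
    obtain ⟨a, ha⟩ := hσ.exists_trace (- h u.1 u.1) (by rw [map_neg, S.self_fix])
    have ha' : a + σ a + h u.1 u.1 = 0 := by rw [ha]; ring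
    obtain ⟨t, ht⟩ := exists_eichAt S H.ee u.2.1 ha'
    set ν := τ₁ * τ₂ * τ₁ with hν
    have hνE : ν ∈ eGroup σ h :=
      mul_mem (mul_mem (mem_eGroup_of_eichAt (H.ne_right S) h1) (mem_eGroup_of_eichAt (H.ne_left S) h2))
        (mem_eGroup_of_eichAt (H.ne_right S) h1)
    have hte : t e = e := by
      rw [ht.apply, H.ee, S.zero_symm u.2.1]
      simp
    have htf : t f = f + u.1 + a • e := by
      rw [ht.apply, H.fe, S.zero_symm u.2.2]
      simp
    have htz : ∀ z : perp2 S e f, t z.1 = z.1 - h z.1 u.1 • e := by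
      intro z
      rw [ht.apply, z.2.1]
      simp
    have hu1 : ν u.1 = u.1 := v3 _ u.2.1 u.2.2
    refine ⟨ν * t * w', mul_mem (mul_mem hνE (mem_eGroup_of_eichAt (H.ne_left S) ht)) hw', e, ?_, fun M hM hinv => ?_⟩
    · show h e (ν (t (w' e))) ≠ 0
      rw [w'2, hte, v1, S.smul_right, H.ef S, mul_one]
      exact hcσ
    · have hwe : (ν * t * w') e = (-c⁻¹) • f := by
        show ν (t (w' e)) = _
        rw [w'2, hte, v1]
      have hwf : (ν * t * w') f = c • e + u.1 + (a * -c⁻¹) • f := by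
        show ν (t (w' f)) = _
        rw [w'3, htf, map_add, map_add, v2, hu1, map_smul, v1, smul_smul]
      have hwz : ∀ z : perp2 S e f, (ν * t * w') z.1 = (w_R z).1 + (- h (w_R z).1 u.1 * -c⁻¹) • f := by
        intro z
        show ν (t (w' z.1)) = _
        rw [w'1, htz, map_sub, v3 _ (w_R z).2.1 (w_R z).2.2, map_smul, v1, smul_smul, sub_eq_add_neg, ← neg_smul, neg_mul]
      have hf : f ∈ M := by
        have h3 := hinv e hM
        rw [hwe] at h3
        have := M.smul_mem (-c⁻¹)⁻¹ h3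
        rwa [smul_smul, inv_mul_cancel₀ (by simpa using hc0), one_smul] at this
      have hu2 : u.1 ∈ M := by
        have h3 := hinv f hf
        rw [hwf] at h3
        have h4 := M.sub_mem (M.sub_mem h3 (M.smul_mem c hM)) (M.smul_mem (a * -c⁻¹) hf)
        have e1 : c • e + u.1 + (a * -c⁻¹) • f - c • e - (a * -c⁻¹) • f = u.1 := by abel
        rwa [e1] at h4
      let N : Submodule F (perp2 S e f) := M.comap (perp2 S e f).subtype
      have hN : N = ⊤ := hcyc N hu2 (fun y hy => by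
        show (w_R y).1 ∈ M
        have h3 := hinv y.1 hy
        rw [hwz] at h3
        have h4 := M.sub_mem h3 (M.smul_mem (- h (w_R y).1 u.1 * -c⁻¹) hf)
        rwa [add_sub_cancel_right] at h4)
      rw [eq_top_iff]
      intro x _
      rw [decomp (e := e) (f := f) (h := h) x]
      have hp := proj_mem S H x
      have h5 : (⟨_, hp⟩ : perp2 S e f) ∈ N := by rw [hN]; trivial
      exact M.add_mem (M.add_mem h5 (M.smul_mem _ hM)) (M.smul_mem _ hf)

variable {V : Type v} [AddCommGroup V] [Module F V] {h : V → V → F} {e₀ f₀ e₁ f₁ : V}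

/-- An element with a cyclic vector on the complement of two hyperbolic pairs. -/
theorem exists_w2 [FiniteDimensional F V] (S : HForm σ h) (hσ : Invol σ) (P : Pairs h e₀ f₀ e₁ f₁)
    (hdim : 5 ≤ finrank F V) :
    ∃ w₂ ∈ eGroup σ h, w₂ e₀ = e₀ ∧ w₂ f₀ = f₀ ∧ w₂ e₁ = e₁ ∧ w₂ f₁ = f₁ ∧ ∃ v, Pp h e₀ f₀ e₁ f₁ v ∧ h v (w₂ v) ≠ 0 ∧
      ∀ M : Submodule F V, v ∈ M → (∀ y ∈ M, Pp h e₀ f₀ e₁ f₁ y → w₂ y ∈ M) → ∀ x, Pp h e₀ f₀ e₁ f₁ x → x ∈ M := by
  obtain ⟨H₀, H₁, a1, a2, a3, a4⟩ := id P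
  have S' := restrict S H₀
  let e₁' : perp2 S e₀ f₀ := ⟨e₁, S.zero_symm a1, S.zero_symm a3⟩
  let f₁' : perp2 S e₀ f₀ := ⟨f₁, S.zero_symm a2, S.zero_symm a4⟩
  have H₁' : IsHP (fun a b : perp2 S e₀ f₀ => h a b) e₁' f₁' := ⟨H₁.ee, H₁.ff, H₁.fe⟩
  have hfr := finrank_perp2 S H₀
  have hfr' := finrank_perp2 S' H₁'
  obtain ⟨w_R, hw_R, u, hu, hcyc⟩ := exists_cyc hσ _ (perp2 S' e₁' f₁') (fun a b => h a.1 b.1)
    (restrict S' H₁') rfl (by omega)
  obtain ⟨w', hw', w'1, w'2, w'3⟩ := ext_eGroup S' hσ H₁' hw_R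
  obtain ⟨w'', hw'', w''1, w''2, w''3⟩ := ext_eGroup S hσ H₀ hw'
  refine ⟨w'', hw'', w''2, w''3, ?_, ?_, u.1.1, ⟨u.1.2.1, u.1.2.2, u.2.1, u.2.2⟩, ?_, fun M hM hinv x hx => ?_⟩
  · have := w''1 e₁'
    rw [w'2] at this
    exact this
  · have := w''1 f₁'
    rw [w'3] at this
    exact this
  · have := w''1 u.1
    rw [w'1] at this
    rw [this]
    exact hu
  · let N : Submodule F (perp2 S' e₁' f₁') := (M.comap (perp2 S e₀ f₀).subtype).comap (perp2 S' e₁' f₁').subtype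
    have hN : N = ⊤ := hcyc N hM (fun y hy => by
      show (w_R y).1.1 ∈ M
      have h3 := hinv y.1.1 hy ⟨y.1.2.1, y.1.2.2, y.2.1, y.2.2⟩
      have h4 := w''1 y.1
      rw [w'1] at h4
      rwa [h4] at h3)
    have h5 : (⟨⟨x, hx.1, hx.2.1⟩, hx.2.2.1, hx.2.2.2⟩ : perp2 S' e₁' f₁') ∈ N := by rw [hN]; trivial
    exact h5

end Cfsg.Agent.Lib.PSUTwo.Cyc
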