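import Mathlib

/-!
Two generation of special unitary groups: elements generating a finite field as a ring.
-/

set_option autoImplicit false
set_option linter.unusedSectionVars false
set_option linter.unusedVariables false
set_option linter.unusedSimpArgs false
set_option linter.style.haveILetI false

namespace Cfsg.Agent.Lib.PSUTwo.Fld

open Module

universe u

variable {F : Type u} [Field F] [Fintype F]

/-- Proper subrings of a finite field. -/
theorem subring_params (K : Subring F) (hK : K ≠ ⊤) :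
    ∃ s d : ℕ, 2 ≤ s ∧ 2 ≤ d ∧ s ^ d = Fintype.card F ∧ ∀ x ∈ K, x ≠ 0 → x ^ (s - 1) = 1 := by
  classical
  have hcard : 2 ≤ Fintype.card F := Fintype.one_lt_card
  let K' : Subfield F :=
    { K with
      inv_mem' := fun x hx => by
        by_cases hx0 : x = 0
        · rw [hx0, inv_zero]
          exact K.zero_mem
        · have h1 : x ^ (Fintype.card F - 1) = 1 := FiniteField.pow_card_sub_one_eq_one x hx0
          have h2 : x⁻¹ = x ^ (Fintype.card F - 2) := by
            field_simp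
            rw [← pow_succ']
            have h3 : Fintype.card F - 2 + 1 = Fintype.card F - 1 := by omega
            rw [h3, h1]
          rw [h2]
          exact K.pow_mem hx _ }
  have hK' : ∀ x, x ∈ K' ↔ x ∈ K := fun x => Iff.rfl
  haveI : Fintype K' := Fintype.ofFinite _
  have h1 := Module.card_eq_pow_finrank (K := K') (V := F)
  have hs2 : 2 ≤ Fintype.card K' := Fintype.one_lt_card
  set d := finrank K' F with hd
  have hd2 : 2 ≤ d := by
    by_contra hcon
    have hd1 : d = 0 ∨ d = 1 := by omega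
    rcases hd1 with h0 | h0
    · rw [h0, pow_zero] at h1
      omega
    · rw [h0, pow_one] at h1
      apply hK
      rw [eq_top_iff]
      intro x _
      have hinj : Function.Injective (Subtype.val : K' → F) := Subtype.val_injective
      have hbij := (Fintype.bijective_iff_injective_and_card _).2 ⟨hinj, h1.symm⟩
      obtain ⟨y, rfl⟩ := hbij.2 x
      exact y.2
  refine ⟨Fintype.card K', d, hs2, hd2, h1.symm, fun x hx hx0 => ?_⟩
  have h2 : (⟨x, hx⟩ : K') ≠ 0 := fun h0 => hx0 (congrArg Subtype.val h0)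
  have h3 := FiniteField.pow_card_sub_one_eq_one (⟨x, hx⟩ : K') h2
  exact congrArg Subtype.val h3

/-- Generators of the multiplicative group. -/
theorem exists_gen : ∃ ρ : F, ρ ≠ 0 ∧ orderOf ρ = Fintype.card F - 1 := by
  classical
  obtain ⟨g, hg⟩ := IsCyclic.exists_generator (α := Fˣ)
  refine ⟨(g : F), g.ne_zero, ?_⟩
  rw [orderOf_units, orderOf_eq_card_of_forall_mem_zpowers hg, Nat.card_eq_fintype_card, Fintype.card_units]

theorem s_le {s d q : ℕ} (hs : 2 ≤ s) (hd : 2 ≤ d) (h : s ^ d = q ^ 2) : s ≤ q := by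
  by_contra hcon
  push Not at hcon
  have h1 : q ^ 2 < s ^ 2 := Nat.pow_lt_pow_left hcon (by norm_num)
  have h2 : s ^ 2 ≤ s ^ d := Nat.pow_le_pow_right (by omega) hd
  omega

section params

variable {q : ℕ} (hF : Fintype.card F = q ^ 2) (hq2 : 2 ≤ q) {ρ : F} (hρ0 : ρ ≠ 0)
  (hρ : orderOf ρ = Fintype.card F - 1)

include hF hq2 hρ

theorem card_eq : orderOf ρ = (q - 1) * (q + 1) := by
  rw [hρ, hF]
  obtain ⟨r, rfl⟩ : ∃ r, q = r + 1 := ⟨q - 1, by omega⟩
  have : (r + 1) ^ 2 = r * (r + 1 + 1) + 1 := by ring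
  simp only [Nat.add_sub_cancel]
  omega

theorem alpha_dvd {t : ℕ} (ht : (ρ ^ (q - 1)) ^ t = 1) : q + 1 ∣ t := by
  rw [← pow_mul] at ht
  have h1 := orderOf_dvd_of_pow_eq_one ht
  rw [card_eq hF hq2 hρ] at h1
  exact Nat.dvd_of_mul_dvd_mul_left (by omega) h1

include hρ0

theorem alpha_norm : (ρ ^ (q - 1)) ^ q = (ρ ^ (q - 1))⁻¹ := by
  have h1 : ρ ^ ((q - 1) * (q + 1)) = 1 := by
    rw [← card_eq hF hq2 hρ]
    exact pow_orderOf_eq_one ρ
  apply eq_inv_of_mul_eq_one_left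
  rw [← h1, ← pow_mul, ← pow_add]
  congr 1

/-- The element generates the field, in dimension at least five. -/
theorem alpha_gen (K : Subring F) (hK : (ρ ^ (q - 1))⁻¹ ∈ K) : K = ⊤ := by
  by_contra hne
  obtain ⟨s, d, hs, hd, h1, h2⟩ := subring_params K hne
  rw [hF] at h1
  have hα0 : (ρ ^ (q - 1))⁻¹ ≠ 0 := inv_ne_zero (pow_ne_zero _ hρ0)
  have h3 := h2 _ hK hα0
  rw [inv_pow, inv_eq_one] at h3
  have h4 := alpha_dvd hF hq2 hρ h3
  have h5 := Nat.le_of_dvd (by omega) h4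
  have h6 := s_le hs hd h1
  omega

/-- The element generates the field, in dimension four. -/
theorem alpha_gen_two (hq3 : q ≠ 3) (K : Subring F) (hK : (ρ ^ (q - 1))⁻¹ * (ρ ^ (q - 1))⁻¹ ∈ K) : K = ⊤ := by
  by_contra hne
  obtain ⟨s, d, hs, hd, h1, h2⟩ := subring_params K hne
  rw [hF] at h1
  have hα0 : (ρ ^ (q - 1))⁻¹ * (ρ ^ (q - 1))⁻¹ ≠ 0 :=
    mul_ne_zero (inv_ne_zero (pow_ne_zero _ hρ0)) (inv_ne_zero (pow_ne_zero _ hρ0))
  have h3 := h2 _ hK hα0
  have h3' : (ρ ^ (q - 1)) ^ (2 * (s - 1)) = 1 := by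
    rw [pow_mul, pow_two, ← inv_inj, ← inv_pow, mul_inv, inv_one]
    exact h3
  have h4 := alpha_dvd hF hq2 hρ h3'
  have h6 := s_le hs hd h1
  obtain ⟨k, hk⟩ := h4
  have hk1 : k = 1 := by
    have hk0 : k ≠ 0 := by
      rintro rfl
      omega
    by_contra hk2
    have hk3 : 2 ≤ k := by omega
    have : 2 * (q + 1) ≤ (q + 1) * k := by nlinarith
    omega
  subst hk1
  have hqs : q = 2 * s - 3 := by omega
  rcases (by omega : d = 2 ∨ 3 ≤ d) with rfl | hd3
  · have : s = q := Nat.pow_left_injective (n := 2) (by norm_num) h1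
    omega
  · have h7 : s ^ 3 ≤ s ^ d := Nat.pow_le_pow_right (by omega) hd3
    rw [h1] at h7
    obtain ⟨r, rfl⟩ : ∃ r, s = r + 2 := ⟨s - 2, by omega⟩
    have hqr : q = 2 * r + 1 := by omega
    subst hqr
    rcases (by omega : r = 0 ∨ r = 1 ∨ 2 ≤ r) with rfl | rfl | hr
    · omega
    · omega
    · nlinarith [sq_nonneg r]

/-- Arithmetic for dimension three. -/
theorem beta_gen (hq3 : 3 ≤ q) (K : Subring F) (hK : ρ ^ q / (ρ * ρ) ∈ K) : K = ⊤ := by
  by_contra hne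
  obtain ⟨s, d, hs, hd, h1, h2⟩ := subring_params K hne
  rw [hF] at h1
  have h6 := s_le hs hd h1
  have hβ : ρ ^ q / (ρ * ρ) = ρ ^ (q - 2) := by
    rw [div_eq_iff (mul_ne_zero hρ0 hρ0), ← pow_two, ← pow_add]
    congr 1
    omega
  rw [hβ] at hK
  have h3 := h2 _ hK (pow_ne_zero _ hρ0)
  rw [← pow_mul] at h3
  have h4 := orderOf_dvd_of_pow_eq_one h3
  rw [card_eq hF hq2 hρ] at h4
  obtain ⟨p, rfl⟩ : ∃ p, q = p + 3 := ⟨q - 3, by omega⟩
  obtain ⟨t, ht⟩ : ∃ t, s - 1 = t + 1 := ⟨s - 2, by omega⟩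
  rw [ht] at h4
  have e1 : p + 3 - 2 = p + 1 := by omega
  have e2 : p + 3 - 1 = p + 2 := by omega
  rw [e1, e2] at h4
  have h5 : (p + 2) * (p + 3 + 1) ∣ 3 * (t + 1) := by
    have h7 : (p + 2) * (p + 3 + 1) ∣ (p + 1) * (t + 1) * (p + 5) := Dvd.dvd.mul_right h4 _
    have h8 : (p + 2) * (p + 3 + 1) ∣ (p + 1) * (t + 1) * (p + 5) + 3 * (t + 1) := by
      have e3 : (p + 1) * (t + 1) * (p + 5) + 3 * (t + 1) = (p + 2) * (p + 3 + 1) * (t + 1) := by ring
      rw [e3]
      exact Dvd.intro _ rfl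
    exact (Nat.dvd_add_right h7).1 h8
  have h9 := Nat.le_of_dvd (by omega) h5
  have h10 : t + 1 ≤ p + 2 := by omega
  nlinarith

theorem beta_ne (hq3 : 3 ≤ q) : ρ ≠ ρ ^ q * ρ ^ q := by
  intro h0
  have h1 : ρ ^ (2 * q - 1) = 1 := by
    have h2 : ρ ^ (2 * q - 1) * ρ = 1 * ρ := by
      rw [one_mul, ← pow_succ, show 2 * q - 1 + 1 = q + q by omega, pow_add]
      exact h0.symm
    exact mul_right_cancel₀ hρ0 h2
  have h4 := orderOf_dvd_of_pow_eq_one h1
  rw [card_eq hF hq2 hρ] at h4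
  have h5 := Nat.le_of_dvd (by omega) h4
  obtain ⟨p, rfl⟩ : ∃ p, q = p + 3 := ⟨q - 3, by omega⟩
  have e1 : p + 3 - 1 = p + 2 := by omega
  rw [e1] at h5
  have e2 : 2 * (p + 3) - 1 = 2 * p + 5 := by omega
  rw [e2] at h5
  nlinarith

theorem alpha_ne_one : ρ ^ (q - 1) ≠ 1 := by
  intro h0
  have h1 := alpha_dvd hF hq2 hρ (t := 1) (by rw [pow_one]; exact h0)
  have := Nat.le_of_dvd (by omega) h1
  omega

theorem alpha_sq_ne : (ρ ^ (q - 1))⁻¹ * (ρ ^ (q - 1))⁻¹ ≠ 1 := by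
  intro h0
  have h1 := alpha_dvd hF hq2 hρ (t := 2) (by
    rw [pow_two, ← inv_inj, mul_inv, inv_one]
    exact h0)
  have := Nat.le_of_dvd (by omega) h1
  omega

end params

end Cfsg.Agent.Lib.PSUTwo.Fld
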