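import Mathlib
import Cfsg.Agent.Lib.PSUTwo.Cyc

/-!
Two generation of special unitary groups: dimension four.
-/

set_option autoImplicit false
set_option linter.unusedSectionVars false
set_option linter.unusedVariables false
set_option linter.unusedSimpArgs false

namespace Cfsg.Agent.Lib.PSUTwo.Four

open Module Cfsg.Agent.Lib.Classical.HermBasic Cfsg.Agent.Lib.Classical.HermElem Cfsg.Agent.Lib.Classical.HermGen
open Cfsg.Agent.Lib.PSUTwo.Basic Cfsg.Agent.Lib.PSUTwo.Big Cfsg.Agent.Lib.PSUTwo.BigGen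

universe u v

variable {F : Type u} [Field F] {V : Type v} [AddCommGroup V] [Module F V]
variable {σ : F →+* F} {h : V → V → F}

variable {e₀ f₀ e₁ f₁ : V}

variable [Finite F] [FiniteDimensional F V]

/-- In dimension four the orthogonal complement of the two pairs is trivial. -/
theorem pp_eq_zero (S : HForm σ h) (hσ : Invol σ) (P : Pairs h e₀ f₀ e₁ f₁) (hdim : finrank F V = 4) {x : V}
    (hx : Pp h e₀ f₀ e₁ f₁ x) : x = 0 := by
  obtain ⟨H₀, H₁, a1, a2, a3, a4⟩ := id P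
  have S' := restrict S H₀
  let e₁' : perp2 S e₀ f₀ := ⟨e₁, S.zero_symm a1, S.zero_symm a3⟩
  let f₁' : perp2 S e₀ f₀ := ⟨f₁, S.zero_symm a2, S.zero_symm a4⟩
  have H₁' : IsHP (fun a b : perp2 S e₀ f₀ => h a b) e₁' f₁' := ⟨H₁.ee, H₁.ff, H₁.fe⟩
  have hfr := finrank_perp2 S H₀
  have h1 := dim2_span S' hσ (by omega) H₁' ⟨x, hx.1, hx.2.1⟩
  have h2 := congrArg Subtype.val h1
  have h3 : h x f₁ = 0 := hx.2.2.2
  have h4 : h x e₁ = 0 := hx.2.2.1
  simp only [Submodule.coe_add, Submodule.coe_smul] at h2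
  rw [h2]
  show h x f₁ • e₁ + h x e₁ • f₁ = 0
  rw [h3, h4]
  simp

/-- The generic argument in dimension four. -/
theorem four_two_gen (S : HForm σ h) (hσ : Invol σ) (P : Pairs h e₀ f₀ e₁ f₁) (hdim : finrank F V = 4) {α : F}
    (hα0 : α ≠ 0) (hα2 : α⁻¹ * α⁻¹ ≠ 1) (hn : σ α = α⁻¹) [Fintype F]
    (hβ : ∀ K : Subring F, α⁻¹ * α⁻¹ ∈ K → K = ⊤) :
    ∃ a b, Subgroup.closure {a, b} = eGroup σ h := by
  obtain ⟨H₀, H₁, a1, a2, a3, a4⟩ := id P
  have he₀ := H₀.ne_left S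
  have hE := uGroup_of_eGroup (h := h) (σ := σ) S
  obtain ⟨c, hc0, hc⟩ := hσ.exists_pure
  obtain ⟨w, hwE, W1, W2, W3, W4, W5⟩ := exists_w1 S hσ P hc0 hc
  obtain ⟨τ, hτ, t1, t2, t3, t4, t5⟩ := exists_tau2 S hσ P hα0 hn
  have ti1 : τ⁻¹ e₀ = α • e₀ := by
    apply τ.injective
    rw [apply_inv_self, map_smul, t1, smul_smul, mul_inv_cancel₀ hα0, one_smul]
  have ti2 : τ⁻¹ f₀ = α • f₀ := by
    apply τ.injective
    rw [apply_inv_self, map_smul, t2, smul_smul, mul_inv_cancel₀ hα0, one_smul]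
  have ti3 : τ⁻¹ e₁ = α⁻¹ • e₁ := by
    apply τ.injective
    rw [apply_inv_self, map_smul, t3, smul_smul, inv_mul_cancel₀ hα0, one_smul]
  have ti4 : τ⁻¹ f₁ = α⁻¹ • f₁ := by
    apply τ.injective
    rw [apply_inv_self, map_smul, t4, smul_smul, inv_mul_cancel₀ hα0, one_smul]
  have ti5 : ∀ x, Pp h e₀ f₀ e₁ f₁ x → τ⁻¹ x = x := fun x hx => by
    apply τ.injective
    rw [apply_inv_self, t5 x hx]
  have hcomm : w * τ = τ⁻¹ * w := by
    refine ext4 S P ?_ ?_ ?_ ?_ ?_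
    · show w (τ e₀) = τ⁻¹ (w e₀)
      rw [t1, map_smul, W1, ti3]
    · show w (τ f₀) = τ⁻¹ (w f₀)
      rw [t2, map_smul, W3, ti4]
    · show w (τ e₁) = τ⁻¹ (w e₁)
      rw [t3, map_smul, W2, map_smul, ti2, smul_smul, smul_smul, mul_comm]
    · show w (τ f₁) = τ⁻¹ (w f₁)
      rw [t4, map_smul, W4, map_smul, ti1, smul_smul, smul_smul, mul_comm]
    · intro x hx
      rw [pp_eq_zero S hσ P hdim hx]
      simp
  have hz : h e₁ e₀ = 0 := S.zero_symm a1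
  have hz0 : (0 : F) + σ 0 + h e₁ e₁ = 0 := by rw [H₁.ee]; simp
  obtain ⟨y, hy⟩ := exists_eichAt S H₀.ee hz hz0
  have hyE : y ∈ eGroup σ h := mem_eGroup_of_eichAt he₀ hy
  set G := Subgroup.closure {w * y, τ} with hGdef
  have ha : w * y ∈ G := Subgroup.subset_closure (by simp)
  have hb : τ ∈ G := Subgroup.subset_closure (by simp)
  have hGE : G ≤ eGroup σ h := by
    rw [hGdef, Subgroup.closure_le]
    rintro g (rfl | rfl)
    · exact mul_mem hwE hyE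
    · exact hτ
  have hG : G ≤ uGroup h := hGE.trans hE
  refine ⟨w * y, τ, le_antisymm hGE ?_⟩
  set a := w * y with hadef
  have hστ : α * σ α = 1 := by rw [hn, mul_inv_cancel₀ hα0]
  have hkey : w * (τ⁻¹ * y * τ⁻¹⁻¹ * y⁻¹) * w⁻¹ = τ * a * τ * a⁻¹ := by
    have e3 : w * τ⁻¹ = τ * w := by
      have h9 : τ * (w * τ) * τ⁻¹ = τ * (τ⁻¹ * w) * τ⁻¹ := by rw [hcomm]
      have e5 : τ * (w * τ) * τ⁻¹ = τ * w := by group
      have e4 : τ * (τ⁻¹ * w) * τ⁻¹ = w * τ⁻¹ := by group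
      rw [e5, e4] at h9
      exact h9.symm
    rw [hadef, ← mul_assoc, ← mul_assoc, ← mul_assoc, e3]
    group
  have Y1 : ∃ g ∈ G, EichAt σ h e₁ ((((α⁻¹ * α⁻¹) - 1) * c⁻¹) • f₀) 0 g := by
    have A1 := hy.conj (t := τ⁻¹) ((uGroup h).inv_mem (hG hb))
    rw [ti1, ti3] at A1
    have A2 := A1.smul_center S hσ hα0
    rw [hστ, mul_one, hn, smul_smul] at A2
    have A3 := A2.mul S (hy.inv S hσ)
    have A4 := A3.conj (hE hwE)
    rw [W1, map_add, map_smul, map_neg, W2] at A4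
    have e1 : (α⁻¹ * α⁻¹) • (c⁻¹ • f₀) + -(c⁻¹ • f₀) = (((α⁻¹ * α⁻¹) - 1) * c⁻¹) • f₀ := by module
    have e2 : (0 : F) + σ 0 - h (-e₁) ((α⁻¹ * α⁻¹) • e₁) = 0 := by
      simp [S.neg_left, S.smul_right, H₁.ee]
    rw [e1, e2] at A4
    refine ⟨_, ?_, A4⟩
    rw [hkey]
    exact G.mul_mem (G.mul_mem (G.mul_mem hb ha) hb) (G.inv_mem ha)
  let A : AddSubgroup F :=
    { carrier := {d | ∃ g ∈ G, EichAt σ h e₁ (d • f₀) 0 g}
      add_mem' := fun {x y} hx hy => by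
        obtain ⟨g, hg, Hg⟩ := hx
        obtain ⟨g', hg', Hg'⟩ := hy
        refine ⟨_, G.mul_mem hg hg', ?_⟩
        have B := Hg.mul S Hg'
        rw [← add_smul] at B
        have e2 : (0 : F) + 0 - h (y • f₀) (x • f₀) = 0 := by
          simp [S.smul_left, S.smul_right, H₀.ff]
        rwa [e2] at B
      zero_mem' := by
        refine ⟨1, G.one_mem, H₁.ee, by simp [S.zero_left], by simp [S.zero_left], fun z => ?_⟩
        simp [S.zero_right]
      neg_mem' := fun {x} hx => by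
        obtain ⟨g, hg, Hg⟩ := hx
        refine ⟨_, G.inv_mem hg, ?_⟩
        have B := Hg.inv S hσ
        rwa [map_zero, ← neg_smul] at B }
  have hc₀ : ((α⁻¹ * α⁻¹) - 1) * c⁻¹ ≠ 0 :=
    mul_ne_zero (sub_ne_zero.2 hα2) (inv_ne_zero hc0)
  have hAtop : A = ⊤ := by
    refine add_stable_eq_top A hβ (fun d hd => ?_) Y1 hc₀
    obtain ⟨g, hg, Hg⟩ := hd
    refine ⟨_, G.mul_mem (G.mul_mem hb hg) (G.inv_mem hb), ?_⟩
    have B := Hg.conj (hG hb)
    rw [t3, map_smul, t2] at B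
    have B2 := B.smul_center S hσ hα0
    rw [hn, zero_mul, smul_smul, smul_smul] at B2
    convert B2 using 2
    ring
  have R3 : RZ σ h G e₁ f₀ := by
    intro d g Hg
    have h9 : d ∈ A := by rw [hAtop]; trivial
    obtain ⟨g', hg', Hg'⟩ := h9
    rw [eich_unique Hg Hg']
    exact hg'
  have he₀y : y e₀ = e₀ := by
    rw [hy.apply, H₀.ee, S.zero_symm hz]
    simp
  have he₁y : y e₁ = e₁ := by
    rw [hy.apply, hz, H₁.ee]
    simp
  have Ae0 : a e₀ = e₁ := by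
    show w (y e₀) = _
    rw [he₀y, W1]
  have Ae1 : a e₁ = c⁻¹ • f₀ := by
    show w (y e₁) = _
    rw [he₁y, W2]
  have ai1 : a⁻¹ e₁ = e₀ := by rw [← Ae0]; exact inv_apply_self a e₀
  have ai2 : a⁻¹ f₀ = c • e₁ := by
    apply a.injective
    rw [apply_inv_self, map_smul, Ae1, smul_smul, mul_inv_cancel₀ hc0, one_smul]
  have R1 : RZ σ h G e₀ e₁ :=
    RZ.conj S hσ hG (G.inv_mem ha) (l := 1) (m := c) one_ne_zero hc0 (by rw [ai1, one_smul]) ai2 R3
  have hyG : y ∈ G := R1 1 y (by rw [one_smul]; exact hy)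
  have hwG : w ∈ G := by
    have h9 : w = a * y⁻¹ := by rw [hadef]; group
    rw [h9]
    exact G.mul_mem ha (G.inv_mem hyG)
  have hcneg : -c ≠ 0 := neg_ne_zero.2 hc0
  have R' : RZ σ h G f₁ e₀ := by
    refine RZ.conj S hσ hG (G.inv_mem hwG) (l := (-c)⁻¹) (m := 1) (inv_ne_zero hcneg) one_ne_zero ?_ ?_ R1
    · apply w.injective
      rw [apply_inv_self, map_smul, W4, smul_smul, inv_mul_cancel₀ hcneg, one_smul]
    · rw [one_smul, ← W1]
      exact inv_apply_self w e₀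
  have R2 : RZ σ h G e₀ f₁ := RZ.swap S hσ H₁.ff R'
  refine finish S hσ P hG hwG hc0 W1 W2 R1 R2 (fun x hx => ?_)
  rw [pp_eq_zero S hσ P hdim hx]
  exact PP.zero S H₀.ee

end Cfsg.Agent.Lib.PSUTwo.Four
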