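import Mathlib
import Cfsg.Agent.Lib.PSUTwo.Four

/-!
Two generation of special unitary groups: dimension four over the field with nine elements.
-/

set_option autoImplicit false
set_option linter.unusedSectionVars false
set_option linter.unusedVariables false
set_option linter.unusedSimpArgs false

namespace Cfsg.Agent.Lib.PSUTwo.FourThree

open Module Cfsg.Agent.Lib.Classical.HermBasic Cfsg.Agent.Lib.Classical.HermElem Cfsg.Agent.Lib.Classical.HermGen
open Cfsg.Agent.Lib.PSUTwo.Basic Cfsg.Agent.Lib.PSUTwo.Big Cfsg.Agent.Lib.PSUTwo.BigGen Cfsg.Agent.Lib.PSUTwo.Four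

universe u v

variable {F : Type u} [Field F] {V : Type v} [AddCommGroup V] [Module F V]
variable {σ : F →+* F} {h : V → V → F}

variable {e₀ f₀ e₁ f₁ : V}

variable [Finite F] [FiniteDimensional F V]

/-- An additive subgroup of a field with nine elements with two independent elements is everything. -/
theorem addsub_eq_top [Fintype F] (hcard : Fintype.card F = 9) (A : AddSubgroup F) {r s : F} (hr : r ∈ A)
    (hs : s ∈ A) (h1 : r ≠ 0) (h2 : s ≠ 0) (h3 : s ≠ r) (h4 : s ≠ -r) (h5 : r ≠ -r) : A = ⊤ := by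
  classical
  apply AddSubgroup.eq_top_of_card_eq
  have hc1 : Nat.card F = 9 := by rw [Nat.card_eq_fintype_card, hcard]
  have hd := AddSubgroup.card_addSubgroup_dvd_card A
  rw [hc1] at hd
  have hs' : ((({0, r, -r, s} : Finset F) : Set F)) ⊆ A := by
    intro x hx
    simp only [Finset.coe_insert, Finset.coe_singleton, Set.mem_insert_iff, Set.mem_singleton_iff] at hx
    rcases hx with rfl | rfl | rfl | rfl
    · exact A.zero_mem
    · exact hr
    · exact A.neg_mem hr
    · exact hs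
  have h6 := Set.ncard_le_ncard hs' (Set.toFinite _)
  rw [Set.ncard_coe_finset] at h6
  have h7 : ({0, r, -r, s} : Finset F).card = 4 := by
    rw [Finset.card_insert_of_notMem, Finset.card_insert_of_notMem, Finset.card_insert_of_notMem, Finset.card_singleton]
    · simpa using fun h0 => h4 h0.symm
    · simp only [Finset.mem_insert, Finset.mem_singleton, not_or]
      exact ⟨h5, h3.symm⟩
    · simp only [Finset.mem_insert, Finset.mem_singleton, not_or]
      refine ⟨h1.symm, ?_, h2.symm⟩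
      intro h0
      exact h1 (by simpa using h0.symm)
  rw [h7] at h6
  have h8 : Nat.card A = (A : Set F).ncard := Nat.card_coe_set_eq (A : Set F)
  rw [← h8] at h6
  rw [show (9 : ℕ) = 3 ^ 2 by norm_num] at hd
  obtain ⟨m, hm, hk⟩ := (Nat.dvd_prime_pow Nat.prime_three).1 hd
  rw [hc1, hk]
  interval_cases m <;> omega

/-- The argument over the field with nine elements. -/
theorem four_three_two_gen (S : HForm σ h) (hσ : Invol σ) (P : Pairs h e₀ f₀ e₁ f₁) (hdim : finrank F V = 4)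
    [Fintype F] (hcard : Fintype.card F = 9) (h3 : (3 : F) = 0) {ρ α : F} (hρ0 : ρ ≠ 0) (hα2 : α * α = -1)
    (hn : σ α = α⁻¹) (hρσ : σ ρ = ρ * α) :
    ∃ a b, Subgroup.closure {a, b} = eGroup σ h := by
  obtain ⟨H₀, H₁, a1, a2, a3, a4⟩ := id P
  have he₀ := H₀.ne_left S
  have he₁ := H₁.ne_left S
  have hE := uGroup_of_eGroup (h := h) (σ := σ) S
  have hne1 : (1 : F) ≠ -1 := by
    intro h0
    have : (1 : F) = 0 := by linear_combination h3 - h0
    exact one_ne_zero this
  have hα0 : α ≠ 0 := by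
    rintro rfl
    rw [mul_zero] at hα2
    have : (1 : F) = 0 := by linear_combination hα2
    exact one_ne_zero this
  have hαi : α⁻¹ = -α := inv_eq_of_mul_eq_one_right (by linear_combination -hα2)
  have hc : α + σ α = 0 := by rw [hn, hαi]; ring
  have hσi : σ α⁻¹ = α := by rw [map_inv₀, hn, inv_inv]
  obtain ⟨w, hwE, W1, W2, W3, W4, W5⟩ := exists_w1 S hσ P hα0 hc
  obtain ⟨τ, hτ, t1, t2, t3, t4, t5⟩ := exists_tau2 S hσ P hα0 hn
  have ti1 : τ⁻¹ e₀ = α • e₀ := by
    apply τ.injective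
    rw [apply_inv_self, map_smul, t1, smul_smul, mul_inv_cancel₀ hα0, one_smul]
  have ti2 : τ⁻¹ f₀ = α • f₀ := by
    apply τ.injective
    rw [apply_inv_self, map_smul, t2, smul_smul, mul_inv_cancel₀ hα0, one_smul]
  have ti3 : τ⁻¹ e₁ = α⁻¹ • e₁ := by
    apply τ.injective
    rw [apply_inv_self, map_smul, t3, smul_smul, inv_mul_cancel₀ hα0, one_smul]
  have ti4 : τ⁻¹ f₁ = α⁻¹ • f₁ := by
    apply τ.injective
    rw [apply_inv_self, map_smul, t4, smul_smul, inv_mul_cancel₀ hα0, one_smul]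
  have hcomm : w * τ = τ⁻¹ * w := by
    refine ext4 S P ?_ ?_ ?_ ?_ ?_
    · show w (τ e₀) = τ⁻¹ (w e₀)
      rw [t1, map_smul, W1, ti3]
    · show w (τ f₀) = τ⁻¹ (w f₀)
      rw [t2, map_smul, W3, ti4]
    · show w (τ e₁) = τ⁻¹ (w e₁)
      rw [t3, map_smul, W2, map_smul, ti2, smul_smul, smul_smul, mul_comm]
    · show w (τ f₁) = τ⁻¹ (w f₁)
      rw [t4, map_smul, W4, map_smul, ti1, smul_smul, smul_smul, mul_comm]
    · intro x hx
      rw [pp_eq_zero S hσ P hdim hx]
      simp
  -- the elements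
  have hz : h (ρ • e₁) e₀ = 0 := by rw [S.smul_left, S.zero_symm a1, mul_zero]
  have hz0 : (0 : F) + σ 0 + h (ρ • e₁) (ρ • e₁) = 0 := by
    simp [S.smul_left, S.smul_right, H₁.ee]
  obtain ⟨y, hy⟩ := exists_eichAt S H₀.ee hz hz0
  have hyE : y ∈ eGroup σ h := mem_eGroup_of_eichAt he₀ hy
  have hz1 : α + σ α + h (0 : V) 0 = 0 := by rw [S.zero_left, hc, add_zero]
  obtain ⟨u, hu⟩ := exists_eichAt S H₀.ee (S.zero_left e₀) hz1
  have huE : u ∈ eGroup σ h := mem_eGroup_of_eichAt he₀ hu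
  have hτu : τ * u = u * τ := by
    have B := hu.conj (hE hτ)
    rw [t1, map_zero] at B
    have B2 := B.smul_center S hσ (inv_ne_zero hα0)
    have e1 : α * (α⁻¹ * σ α⁻¹) = α := by rw [hσi]; field_simp
    rw [smul_zero, e1] at B2
    have e2 := eich_unique hu B2
    have e3 : u * τ = τ * u * τ⁻¹ * τ := by rw [← e2]
    rw [e3]
    group
  have hu1 : u e₀ = e₀ := by
    rw [hu.apply, H₀.ee]
    simp [S.zero_right]
  have hu2 : ∀ z, u z = z + (α * h z e₀) • e₀ := by
    intro z
    rw [hu.apply]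
    simp [S.zero_right]
  have hu3 : u * u * u = 1 := by
    ext1 z
    show u (u (u z)) = z
    rw [hu2 z, map_add, map_smul, hu1, map_add, map_smul, hu1, hu2 z, map_add, map_smul, hu1, hu2 z]
    linear_combination (norm := module) h3 • ((α * h z e₀) • e₀)
  have hτ4 : τ * τ * τ * τ = 1 := by
    have hi : α⁻¹ * α⁻¹ * α⁻¹ * α⁻¹ = 1 := by
      rw [hαi]
      linear_combination (α * α - 1) * hα2
    have hi' : α * α * α * α = 1 := by
      linear_combination (α * α - 1) * hα2
    refine ext4 S P ?_ ?_ ?_ ?_ ?_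
    · show τ (τ (τ (τ e₀))) = e₀
      simp only [t1, map_smul, smul_smul, hi, one_smul]
    · show τ (τ (τ (τ f₀))) = f₀
      simp only [t2, map_smul, smul_smul, hi, one_smul]
    · show τ (τ (τ (τ e₁))) = e₁
      simp only [t3, map_smul, smul_smul, hi', one_smul]
    · show τ (τ (τ (τ f₁))) = f₁
      simp only [t4, map_smul, smul_smul, hi', one_smul]
    · intro x hx
      rw [pp_eq_zero S hσ P hdim hx]
      simp
  set G := Subgroup.closure {w * y, τ * u} with hGdef
  have ha : w * y ∈ G := Subgroup.subset_closure (by simp)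
  have hb : τ * u ∈ G := Subgroup.subset_closure (by simp)
  have hGE : G ≤ eGroup σ h := by
    rw [hGdef, Subgroup.closure_le]
    rintro g (rfl | rfl)
    · exact mul_mem hwE hyE
    · exact mul_mem hτ huE
  have hG : G ≤ uGroup h := hGE.trans hE
  refine ⟨w * y, τ * u, le_antisymm hGE ?_⟩
  set a := w * y with hadef
  have huG : u ∈ G := by
    have e1 : u = (τ * u) * (τ * u) * (τ * u) * (τ * u) := by
      have e2 : (τ * u) * (τ * u) * (τ * u) * (τ * u) = (τ * τ * τ * τ) * (u * u * u) * u := by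
        have e3 : u * τ = τ * u := hτu.symm
        calc (τ * u) * (τ * u) * (τ * u) * (τ * u) = τ * (u * τ) * u * τ * u * τ * u := by group
          _ = τ * (τ * u) * u * τ * u * τ * u := by rw [e3]
          _ = τ * τ * (u * u * τ) * u * τ * u := by group
          _ = τ * τ * (u * (u * τ)) * u * τ * u := by group
          _ = τ * τ * (u * (τ * u)) * u * τ * u := by rw [e3]
          _ = τ * τ * ((u * τ) * u) * u * τ * u := by group
          _ = τ * τ * ((τ * u) * u) * u * τ * u := by rw [e3]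
          _ = τ * τ * τ * (u * u * u * τ) * u := by group
          _ = τ * τ * τ * (u * u * (u * τ)) * u := by group
          _ = τ * τ * τ * (u * u * (τ * u)) * u := by rw [e3]
          _ = τ * τ * τ * (u * (u * τ) * u) * u := by group
          _ = τ * τ * τ * (u * (τ * u) * u) * u := by rw [e3]
          _ = τ * τ * τ * ((u * τ) * u * u) * u := by group
          _ = τ * τ * τ * ((τ * u) * u * u) * u := by rw [e3]
          _ = (τ * τ * τ * τ) * (u * u * u) * u := by group
      rw [e2, hτ4, hu3]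
      group
    rw [e1]
    exact G.mul_mem (G.mul_mem (G.mul_mem hb hb) hb) hb
  have hτG : τ ∈ G := by
    have e1 : τ = τ * u * u⁻¹ := by group
    rw [e1]
    exact G.mul_mem hb (G.inv_mem huG)
  have hστ : α * σ α = 1 := by rw [hn, mul_inv_cancel₀ hα0]
  have hkey : w * (τ⁻¹ * y * τ⁻¹⁻¹ * y⁻¹) * w⁻¹ = τ * a * τ * a⁻¹ := by
    have e3 : w * τ⁻¹ = τ * w := by
      have h9 : τ * (w * τ) * τ⁻¹ = τ * (τ⁻¹ * w) * τ⁻¹ := by rw [hcomm]
      have e5 : τ * (w * τ) * τ⁻¹ = τ * w := by group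
      have e4 : τ * (τ⁻¹ * w) * τ⁻¹ = w * τ⁻¹ := by group
      rw [e5, e4] at h9
      exact h9.symm
    rw [hadef, ← mul_assoc, ← mul_assoc, ← mul_assoc, e3]
    group
  have hyy : τ⁻¹ * y * τ⁻¹⁻¹ * y⁻¹ = y := by
    have A1 := hy.conj (t := τ⁻¹) ((uGroup h).inv_mem (hE hτ))
    rw [ti1, map_smul, ti3] at A1
    have A2 := A1.smul_center S hσ hα0
    rw [hστ, mul_one, hn, smul_smul, smul_smul] at A2
    have A3 := A2.mul S (hy.inv S hσ)
    have e1 : (α⁻¹ * ρ * α⁻¹) • e₁ + -(ρ • e₁) = ρ • e₁ := by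
      have e2 : α⁻¹ * ρ * α⁻¹ = -ρ := by
        rw [hαi]
        linear_combination ρ * hα2
      rw [e2]
      linear_combination (norm := module) (-ρ) • (h3 • e₁)
    have e4 : (0 : F) + σ 0 - h (-(ρ • e₁)) ((α⁻¹ * ρ * α⁻¹) • e₁) = 0 := by
      simp [S.neg_left, S.smul_left, S.smul_right, H₁.ee]
    rw [e1, e4] at A3
    exact eich_unique A3 hy
  have hconj : w * y * w⁻¹ ∈ G := by
    have e1 := hkey
    rw [hyy] at e1
    rw [e1]
    exact G.mul_mem (G.mul_mem (G.mul_mem hτG ha) hτG) (G.inv_mem ha)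
  have hyG : y ∈ G := by
    have e1 : y = a⁻¹ * (w * y * w⁻¹) * a := by rw [hadef]; group
    rw [e1]
    exact G.mul_mem (G.mul_mem (G.inv_mem ha) hconj) ha
  have hwG : w ∈ G := by
    have h9 : w = a * y⁻¹ := by rw [hadef]; group
    rw [h9]
    exact G.mul_mem ha (G.inv_mem hyG)
  -- the Weyl element
  have W22 : (w * w) e₀ = α⁻¹ • f₀ := by
    show w (w e₀) = _
    rw [W1, W2]
  have hw2u := hE (mul_mem hwE hwE)
  have H1 : EichAt σ h f₀ 0 (-α⁻¹) (w * w * u * (w * w)⁻¹) := by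
    have B := hu.conj hw2u
    rw [W22, map_zero] at B
    have B2 := B.smul_center S hσ (inv_ne_zero hα0)
    have e1 : α * (α⁻¹ * σ α⁻¹) = -α⁻¹ := by
      have e2 : α * (α⁻¹ * α) = α := by field_simp
      rw [hσi, e2, hαi, neg_neg]
    rw [smul_zero, e1] at B2
    exact B2
  obtain ⟨v1, v2, v3⟩ := nu_spec S H₀ hα0 H1 hu
  have hτ₁G : w * w * u * (w * w)⁻¹ ∈ G :=
    G.mul_mem (G.mul_mem (G.mul_mem hwG hwG) huG) (G.inv_mem (G.mul_mem hwG hwG))
  set ν := w * w * u * (w * w)⁻¹ * u * (w * w * u * (w * w)⁻¹) with hν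
  have hνG : ν ∈ G := G.mul_mem (G.mul_mem hτ₁G huG) hτ₁G
  let A : AddSubgroup F :=
    { carrier := {d | ∃ g ∈ G, EichAt σ h e₀ (d • f₁) 0 g}
      add_mem' := fun {x y} hx hy => by
        obtain ⟨g, hg, Hg⟩ := hx
        obtain ⟨g', hg', Hg'⟩ := hy
        refine ⟨_, G.mul_mem hg hg', ?_⟩
        have B := Hg.mul S Hg'
        rw [← add_smul] at B
        have e2 : (0 : F) + 0 - h (y • f₁) (x • f₁) = 0 := by
          simp [S.smul_left, S.smul_right, H₁.ff]
        rwa [e2] at B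
      zero_mem' := by
        refine ⟨1, G.one_mem, H₀.ee, by simp [S.zero_left], by simp [S.zero_left], fun z => ?_⟩
        simp [S.zero_right]
      neg_mem' := fun {x} hx => by
        obtain ⟨g, hg, Hg⟩ := hx
        refine ⟨_, G.inv_mem hg, ?_⟩
        have B := Hg.inv S hσ
        rwa [map_zero, ← neg_smul] at B }
  have D1 : ρ ∈ A := by
    have B := hy.conj (t := w * w * w) (hE (mul_mem (mul_mem hwE hwE) hwE))
    have e1 : (w * w * w) e₀ = α⁻¹ • f₁ := by
      show w (w (w e₀)) = _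
      rw [W1, W2, map_smul, W3]
    have e2 : (w * w * w) (ρ • e₁) = (-ρ) • e₀ := by
      show w (w (w (ρ • e₁))) = _
      simp only [map_smul, W2, W3, W4, smul_smul]
      congr 1
      field_simp
    rw [e1, e2] at B
    have B2 := B.smul_center S hσ (inv_ne_zero hα0)
    rw [hσi, zero_mul, smul_smul] at B2
    have B3 := eich_swap S hσ H₀.ee B2
    have e3 : -σ (α * -ρ) = ρ := by
      rw [map_mul, map_neg, hn, hρσ]
      field_simp
    rw [e3] at B3
    exact ⟨_, G.mul_mem (G.mul_mem (G.mul_mem (G.mul_mem hwG hwG) hwG) hyG)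
      (G.inv_mem (G.mul_mem (G.mul_mem hwG hwG) hwG)), B3⟩
  have D2 : α⁻¹ * ρ ∈ A := by
    have B := hy.conj (t := w * w) hw2u
    have e2 : (w * w) (ρ • e₁) = ρ • (α⁻¹ • f₁) := by
      show w (w (ρ • e₁)) = _
      simp only [map_smul, W2, W3]
    rw [W22, e2] at B
    have B2 := B.smul_center S hσ (inv_ne_zero hα0)
    rw [hσi, zero_mul, smul_smul, smul_smul] at B2
    have e3 : α * ρ * α⁻¹ = ρ := by field_simp
    rw [e3] at B2
    have B3 := B2.conj (hG hνG)
    rw [v2, map_smul, v3 f₁ (S.zero_symm a2) (S.zero_symm a4)] at B3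
    have B4 := B3.smul_center S hσ hα0
    rw [hn, zero_mul, smul_smul] at B4
    exact ⟨_, G.mul_mem (G.mul_mem hνG (G.mul_mem (G.mul_mem (G.mul_mem hwG hwG) hyG)
      (G.inv_mem (G.mul_mem hwG hwG)))) (G.inv_mem hνG), B4⟩
  have hne2 : ρ ≠ -ρ := by
    intro h0
    apply hρ0
    linear_combination ρ * h3 - h0
  have hne3 : α⁻¹ * ρ ≠ ρ := by
    intro h0
    have h9 : (α⁻¹ - 1) * ρ = 0 := by linear_combination h0
    have h10 : α⁻¹ = 1 := by
      have := (mul_eq_zero.1 h9).resolve_right hρ0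
      linear_combination this
    rw [hαi] at h10
    apply hne1
    linear_combination hα2 + (α - 1) * h10
  have hne4 : α⁻¹ * ρ ≠ -ρ := by
    intro h0
    have h9 : (α⁻¹ + 1) * ρ = 0 := by linear_combination h0
    have h10 : α⁻¹ = -1 := by
      have := (mul_eq_zero.1 h9).resolve_right hρ0
      linear_combination this
    rw [hαi] at h10
    apply hne1
    linear_combination hα2 + (α + 1) * h10
  have hAtop : A = ⊤ := addsub_eq_top hcard A D1 D2 hρ0 (mul_ne_zero (inv_ne_zero hα0) hρ0) hne3 hne4 hne2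
  have R2 : RZ σ h G e₀ f₁ := by
    intro d g Hg
    have h9 : d ∈ A := by rw [hAtop]; trivial
    obtain ⟨g', hg', Hg'⟩ := h9
    rw [eich_unique Hg Hg']
    exact hg'
  have R' : RZ σ h G e₁ e₀ :=
    RZ.conj S hσ hG hwG (l := 1) (m := -α) one_ne_zero (neg_ne_zero.2 hα0) (by rw [W1, one_smul]) W4 R2
  have R1 : RZ σ h G e₀ e₁ := RZ.swap S hσ H₁.ee R'
  refine finish S hσ P hG hwG hα0 W1 W2 R1 R2 (fun x hx => ?_)
  rw [pp_eq_zero S hσ P hdim hx]
  exact PP.zero S H₀.ee

end Cfsg.Agent.Lib.PSUTwo.FourThree
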