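import Mathlib
import Cfsg.Agent.Lib.PSUTwo.Basic

/-!
Two generation of special unitary groups: dimension three.
-/

set_option autoImplicit false
set_option linter.unusedSectionVars false
set_option linter.unusedVariables false
set_option linter.unusedSimpArgs false

namespace Cfsg.Agent.Lib.PSUTwo.Three

open Module Cfsg.Agent.Lib.Classical.HermBasic Cfsg.Agent.Lib.Classical.HermElem Cfsg.Agent.Lib.Classical.HermGen
open Cfsg.Agent.Lib.PSUTwo.Basic

universe u v

variable {F : Type u} [Field F] {V : Type v} [AddCommGroup V] [Module F V]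
variable {σ : F →+* F} {h : V → V → F}

variable {e f x : V} {G : Subgroup (V ≃ₗ[F] V)}

theorem pow_apply_eigen (g : V ≃ₗ[F] V) {v : V} {l : F} (hv : g v = l • v) (k : ℕ) : (g ^ k) v = l ^ k • v := by
  induction k with
  | zero => simp
  | succ k ih =>
    rw [pow_succ]
    show (g ^ k) (g v) = _
    rw [hv, map_smul, ih, smul_smul, pow_succ, mul_comm]

variable [Finite F] [FiniteDimensional F V]

/-- The decomposition in dimension three. -/
theorem three_span (S : HForm σ h) (hσ : Invol σ) (hdim : finrank F V = 3) (H : IsHP h e f) (hx : x ∈ perp2 S e f)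
    (hδ : h x x ≠ 0) (b : V) : b = h b f • e + h b e • f + (h b x / h x x) • x := by
  have hfr := finrank_perp2 S H
  have hx0 : (⟨x, hx⟩ : perp2 S e f) ≠ 0 := by
    intro h0
    apply hδ
    have : x = 0 := congrArg Subtype.val h0
    rw [this, S.zero_left]
  have hfr1 : finrank F (perp2 S e f) = 1 := by omega
  have hspan := (finrank_eq_one_iff_of_nonzero' _ hx0).1 hfr1
  obtain ⟨l, hl⟩ := hspan ⟨_, proj_mem S H b⟩
  have hl' : l • x = proj e f b h := congrArg Subtype.val hl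
  have hl2 : l * h x x = h b x := by
    have e1 : h (l • x) x = h (proj e f b h) x := by rw [hl']
    rw [S.smul_left] at e1
    rw [e1]
    simp only [proj, S.sub_left, S.smul_left, S.zero_symm hx.1, S.zero_symm hx.2]
    ring
  have hl3 : h b x / h x x = l := by
    rw [div_eq_iff hδ]
    exact hl2.symm
  rw [hl3, hl']
  simp only [proj]
  abel

/-- A commutator of Eichler transformations of the same centre. -/
theorem pp_comm (S : HForm σ h) (hσ : Invol σ) {c u u' : V} (H : PP σ h G c u) (H' : PP σ h G c u') :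
    ∃ g ∈ G, EichAt σ h c 0 (h u u' - h u' u) g := by
  obtain ⟨a, A₁, hA₁, HA₁⟩ := H
  obtain ⟨a', A₂, hA₂, HA₂⟩ := H'
  have P₁ := HA₁.mul S HA₂
  have P₂ := HA₂.mul S HA₁
  rw [add_comm u' u] at P₂
  have P₃ := P₁.mul S (P₂.inv S hσ)
  have e1 : u + u' + -(u + u') = 0 := by abel
  have e2 : a + a' - h u' u + σ (a' + a - h u u') - h (-(u + u')) (u + u') = h u u' - h u' u := by
    have e3 := HA₁.ha
    have e4 := HA₂.ha
    have e5 : σ (h u u') = h u' u := (S.conj u u').symm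
    simp only [S.neg_left, S.add_left, S.add_right, map_sub, map_add, e5]
    linear_combination e3 + e4
  rw [e1, e2] at P₃
  exact ⟨_, G.mul_mem (G.mul_mem hA₁ hA₂) (G.inv_mem (G.mul_mem hA₂ hA₁)), P₃⟩

/-- The argument in dimension three. -/
theorem three_two_gen (S : HForm σ h) (hσ : Invol σ) (hdim : finrank F V = 3) [Fintype F] {q : ℕ}
    (hq : ∀ t : F, σ t = t ^ q) {ρ : F} (hρ0 : ρ ≠ 0) (hs : ρ ≠ σ ρ * σ ρ)
    (hβ : ∀ K : Subring F, σ ρ / (ρ * ρ) ∈ K → K = ⊤) :
    ∃ a b, Subgroup.closure {a, b} = eGroup σ h := by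
  obtain ⟨e, f, H⟩ := exists_hp S hσ (by omega)
  obtain ⟨x, hx, hδ⟩ := exists_nonisotropic_perp2 S hσ (by omega) H
  have hE : eGroup σ h ≤ uGroup h := fun _ hg => (mem_suGroup.1 (eGroup_le_suGroup S hg)).1
  have hspan := three_span S hσ hdim H hx hδ
  have hsρ : σ ρ ≠ 0 := by simpa using hρ0
  have hext : ∀ {g₁ g₂ : V ≃ₗ[F] V}, g₁ e = g₂ e → g₁ f = g₂ f → g₁ x = g₂ x → g₁ = g₂ := by
    intro g₁ g₂ h1 h2 h3
    ext1 b
    rw [hspan b]
    simp only [map_add, map_smul, h1, h2, h3]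
  obtain ⟨c, hc0, hc⟩ := hσ.exists_pure
  have hci : -c⁻¹ ≠ 0 := by simpa using hc0
  obtain ⟨τ₁, τ₂, h1, h2⟩ := exists_nu S H hσ hc0 hc
  obtain ⟨v1, v2, v3⟩ := nu_spec S H hc0 h1 h2
  set w := τ₁ * τ₂ * τ₁ with hw
  have hwE : w ∈ eGroup σ h :=
    mul_mem (mul_mem (mem_eGroup_of_eichAt (H.ne_right S) h1) (mem_eGroup_of_eichAt (H.ne_left S) h2))
      (mem_eGroup_of_eichAt (H.ne_right S) h1)
  have wx : w x = x := v3 x hx.1 hx.2
  -- the torus element
  set ξ := σ ρ / ρ with hξ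
  have hξ0 : ξ ≠ 0 := div_ne_zero hsρ hρ0
  have hσξ : σ ξ = ξ⁻¹ := by
    rw [hξ, map_div₀, hσ.invol, inv_div]
  have hξn : ξ * σ ξ = 1 := by rw [hσξ, mul_inv_cancel₀ hξ0]
  obtain ⟨D, hD⟩ := exists_dAt S hσ H hρ0
  obtain ⟨Q, hQ⟩ := exists_qrAt S hδ hξn
  have hmem : D * Q ∈ suGroup h := by
    rw [mem_suGroup]
    refine ⟨mul_mem (hD.mem_uGroup S hσ) (hQ.mem_uGroup S), ?_⟩
    rw [dt_mul, hD.det S, hQ.det S, hξ]
    field_simp
  rw [suGroup_eq_eGroup hσ S] at hmem
  set τ := D * Q with hτdef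
  have t1 : τ e = ρ • e := by
    show D (Q e) = _
    rw [hQ.apply_orth (S.zero_symm hx.1), hD.apply_left S]
  have t2 : τ f = (σ ρ)⁻¹ • f := by
    show D (Q f) = _
    rw [hQ.apply_orth (S.zero_symm hx.2), hD.apply_right S]
  have t3 : τ x = ξ • x := by
    show D (Q x) = _
    rw [hQ.apply_self, map_smul, hD.apply_orth hx.1 hx.2]
  have ti1 : τ⁻¹ e = ρ⁻¹ • e := by
    apply τ.injective
    rw [apply_inv_self, map_smul, t1, smul_smul, inv_mul_cancel₀ hρ0, one_smul]
  have ti2 : τ⁻¹ f = σ ρ • f := by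
    apply τ.injective
    rw [apply_inv_self, map_smul, t2, smul_smul, mul_inv_cancel₀ hsρ, one_smul]
  have ti3 : τ⁻¹ x = ξ⁻¹ • x := by
    apply τ.injective
    rw [apply_inv_self, map_smul, t3, smul_smul, inv_mul_cancel₀ hξ0, one_smul]
  have hcomm : w * τ⁻¹ = τ ^ q * w := by
    refine hext ?_ ?_ ?_
    · show w (τ⁻¹ e) = (τ ^ q) (w e)
      rw [ti1, map_smul, v1, map_smul, pow_apply_eigen τ t2, ← hq, map_inv₀, hσ.invol, smul_comm]
    · show w (τ⁻¹ f) = (τ ^ q) (w f)
      rw [ti2, map_smul, v2, map_smul, pow_apply_eigen τ t1, ← hq, smul_comm]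
    · show w (τ⁻¹ x) = (τ ^ q) (w x)
      rw [ti3, map_smul, wx, pow_apply_eigen τ t3, ← hq, hσξ]
  -- the generators
  obtain ⟨a₀, ha₀⟩ := hσ.exists_trace (- h x x) (by rw [map_neg, S.self_fix])
  have ha₀' : a₀ + σ a₀ + h x x = 0 := by rw [ha₀]; ring
  obtain ⟨y, hy⟩ := exists_eichAt S H.ee hx.1 ha₀'
  have hyE : y ∈ eGroup σ h := mem_eGroup_of_eichAt (H.ne_left S) hy
  set G := Subgroup.closure {w * y, τ} with hGdef
  have ha : w * y ∈ G := Subgroup.subset_closure (by simp)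
  have hb : τ ∈ G := Subgroup.subset_closure (by simp)
  have hGE : G ≤ eGroup σ h := by
    rw [hGdef, Subgroup.closure_le]
    rintro g (rfl | rfl)
    · exact mul_mem hwE hyE
    · exact hmem
  have hG : G ≤ uGroup h := hGE.trans hE
  refine ⟨w * y, τ, le_antisymm hGE ?_⟩
  set a := w * y with hadef
  have hkey : w * (τ⁻¹ * y * τ⁻¹⁻¹ * y⁻¹) * w⁻¹ = τ ^ q * (a * τ * a⁻¹) := by
    rw [hadef, ← mul_assoc, ← mul_assoc, ← mul_assoc, hcomm]
    group
  set s := (σ ρ)⁻¹ * ξ⁻¹ with hsdef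
  have Y1 : PP σ h G f ((σ (-c⁻¹) * (s - 1)) • x) := by
    have A1 := hy.conj (t := τ⁻¹) ((uGroup h).inv_mem (hG hb))
    rw [ti1, ti3] at A1
    have A2 := A1.smul_center S hσ (inv_ne_zero hρ0)
    rw [map_inv₀, smul_smul, ← hsdef] at A2
    have A3 := A2.mul S (hy.inv S hσ)
    have A4 := A3.conj (hE hwE)
    rw [v1, map_add, map_smul, map_neg, wx] at A4
    have A5 := A4.smul_center S hσ hci
    have e1 : s • x + -x = (s - 1) • x := by module
    rw [e1, smul_smul] at A5
    refine ⟨_, _, ?_, A5⟩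
    rw [hkey]
    exact G.mul_mem (G.pow_mem hb q) (G.mul_mem (G.mul_mem ha hb) (G.inv_mem ha))
  have hs1 : s ≠ 1 := by
    intro h0
    apply hs
    rw [hsdef, hξ, inv_div] at h0
    field_simp at h0
    linear_combination h0
  have hc₁ : σ (-c⁻¹) * (s - 1) ≠ 0 :=
    mul_ne_zero (by simpa using hc0) (sub_ne_zero.2 hs1)
  let A : AddSubgroup F :=
    { carrier := {d | PP σ h G f (d • x)}
      add_mem' := fun {a b} ha hb => by
        show PP σ h G f ((a + b) • x)
        rw [add_smul]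
        exact PP.add S ha hb
      zero_mem' := by
        show PP σ h G f ((0 : F) • x)
        rw [zero_smul]
        exact PP.zero S H.ff
      neg_mem' := fun {a} ha => by
        show PP σ h G f ((-a) • x)
        rw [neg_smul]
        exact PP.neg S hσ ha }
  have hAtop : A = ⊤ := by
    refine add_stable_eq_top A hβ (fun d hd => ?_) Y1 hc₁
    have B1 := PP.conj hG hb (show PP σ h G f (d • x) from hd)
    rw [t2, map_smul, t3] at B1
    have B2 := PP.center S hσ (inv_ne_zero hsρ) B1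
    rw [map_inv₀, hσ.invol, smul_smul, smul_smul] at B2
    have e1 : ρ⁻¹ * d * ξ = σ ρ / (ρ * ρ) * d := by
      rw [hξ]
      field_simp
    rw [e1] at B2
    exact B2
  have Y2 : ∀ d : F, PP σ h G f (d • x) := fun d => by
    have h9 : d ∈ A := by rw [hAtop]; trivial
    exact h9
  have hσδ : σ (h x x) = h x x := S.self_fix x
  have HZ : ZZ σ h G f := by
    intro κ g Hg
    have hκ : κ + σ κ = 0 := by
      have := Hg.ha
      rwa [S.zero_left, add_zero] at this
    obtain ⟨l, hl⟩ := hσ.exists_sub_eq (-κ / h x x) (by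
      rw [map_div₀, map_neg, hσδ]
      field_simp
      linear_combination -hκ)
    obtain ⟨g', hg', Hg'⟩ := pp_comm S hσ (Y2 l) (Y2 1)
    have e1 : h (l • x) ((1 : F) • x) - h ((1 : F) • x) (l • x) = κ := by
      simp only [S.smul_left, S.smul_right, map_one, one_mul, mul_one]
      have e2 : σ l = l + -κ / h x x := by rw [← hl]; ring
      rw [e2]
      field_simp
      ring
    rw [e1] at Hg'
    rw [eich_unique Hg Hg']
    exact hg'
  have Uf : UU σ h G f := by
    refine uu_of S HZ hσ fun b hb => ?_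
    refine ⟨(h b x / h x x) • x, h b e, ?_, Y2 _⟩
    conv_lhs => rw [hspan b]
    rw [hb, zero_smul]
    abel
  have he₀y : y e = e := by
    rw [hy.apply, H.ee, S.zero_symm hx.1]
    simp
  have Ae : a e = (-c⁻¹) • f := by
    show w (y e) = _
    rw [he₀y, v1]
  have U1 := UU.smul S hσ hci Uf
  have U2 := UU.conj hG (G.inv_mem ha) U1
  rw [← Ae, inv_apply_self] at U2
  exact eGroup_le_of_pair S hσ hG H U2 Uf

end Cfsg.Agent.Lib.PSUTwo.Three
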