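import Mathlib
import Cfsg.Prelude.Def_Classical
import Cfsg.Agent.Lib.PSUTwo.FourThree
import Cfsg.Agent.Lib.PSUTwo.Three
import Cfsg.Agent.Lib.PSUTwo.Fld
import Cfsg.Agent.Lib.Classical.HermBridge

/-!
Two generation of special unitary groups: conclusion.
-/

set_option autoImplicit false
set_option linter.unusedSectionVars false
set_option linter.unusedVariables false
set_option linter.unusedSimpArgs false

namespace Cfsg.Agent.Lib.PSUTwo.Final

open Module Cfsg.Agent.Lib.Classical.HermBasic Cfsg.Agent.Lib.Classical.HermElem Cfsg.Agent.Lib.Classical.HermGen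
open Cfsg.Agent.Lib.PSUTwo.Big Cfsg.Agent.Lib.PSUTwo.Fld Cfsg.Agent.Lib.Classical.HermBridge
open Cfsg.Agent.Lib.Classical.HermBridge Cfsg.Agent.Lib.HermCount.Field

universe u v

variable {F : Type u} [Field F] {V : Type v} [AddCommGroup V] [Module F V]
variable {σ : F →+* F} {h : V → V → F}

/-- Two orthogonal hyperbolic pairs exist in dimension at least four. -/
theorem exists_pairs [Finite F] [FiniteDimensional F V] (S : HForm σ h) (hσ : Invol σ) (hdim : 4 ≤ finrank F V) :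
    ∃ e₀ f₀ e₁ f₁, Pairs h e₀ f₀ e₁ f₁ := by
  obtain ⟨e₀, f₀, H₀⟩ := exists_hp S hσ (by omega)
  have hfr := finrank_perp2 S H₀
  obtain ⟨e₁, f₁, H₁⟩ := exists_hp (restrict S H₀) hσ (by omega)
  exact ⟨e₀, f₀, e₁.1, f₁.1, H₀, ⟨H₁.ee, H₁.ff, H₁.fe⟩, S.zero_symm e₁.2.1, S.zero_symm f₁.2.1, S.zero_symm e₁.2.2,
    S.zero_symm f₁.2.2⟩

/-- Two generation of the Eichler group. -/
theorem su_two_gen [Fintype F] [FiniteDimensional F V] {q : ℕ} (hF : Fintype.card F = q ^ 2) (hq2 : 2 ≤ q)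
    (hq : ∀ t : F, σ t = t ^ q) (S : HForm σ h) (hσ : Invol σ) (hn : 3 ≤ finrank F V)
    (h32 : finrank F V = 3 → q ≠ 2) : ∃ a b, Subgroup.closure {a, b} = eGroup σ h := by
  obtain ⟨ρ, hρ0, hρ⟩ := exists_gen (F := F)
  have hnorm : σ (ρ ^ (q - 1)) = (ρ ^ (q - 1))⁻¹ := by
    rw [hq]
    exact alpha_norm hF hq2 hρ0 hρ
  have hα0 : ρ ^ (q - 1) ≠ 0 := pow_ne_zero _ hρ0
  rcases (by omega : finrank F V = 3 ∨ finrank F V = 4 ∨ 5 ≤ finrank F V) with h3 | h4 | h5
  · -- dimension three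
    have hq3 : 3 ≤ q := by
      have := h32 h3
      omega
    refine Cfsg.Agent.Lib.PSUTwo.Three.three_two_gen S hσ h3 hq hρ0 ?_ ?_
    · rw [hq]
      exact beta_ne hF hq2 hρ0 hρ hq3
    · intro K hK
      rw [hq] at hK
      exact beta_gen hF hq2 hρ0 hρ hq3 K hK
  · -- dimension four
    obtain ⟨e₀, f₀, e₁, f₁, P⟩ := exists_pairs S hσ (by omega)
    by_cases hq3 : q = 3
    · subst hq3
      have hc9 : Fintype.card F = 9 := by rw [hF]; norm_num
      have h30 : (3 : F) = 0 := by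
        have h9 : ((Fintype.card F : ℕ) : F) = 0 := Nat.cast_card_eq_zero F
        rw [hc9] at h9
        have : (3 : F) * 3 = 0 := by
          rw [← h9]
          norm_num
        simpa using this
      have ho : orderOf ρ = 8 := by rw [hρ, hc9]
      have h8 : ρ ^ 8 = 1 := by rw [← ho]; exact pow_orderOf_eq_one ρ
      have h4' : ρ ^ 4 ≠ 1 := by
        intro h0
        have := Nat.le_of_dvd (by norm_num) (orderOf_dvd_of_pow_eq_one h0)
        omega
      have h4'' : ρ ^ 4 = -1 := by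
        have e1 : ρ ^ 4 * ρ ^ 4 = 1 := by
          rw [← pow_add]
          exact h8
        exact (mul_self_eq_one_iff.1 e1).resolve_left h4'
      have hα2 : (ρ * ρ) * (ρ * ρ) = -1 := by
        rw [← h4'']
        ring
      have hα00 : ρ * ρ ≠ 0 := mul_ne_zero hρ0 hρ0
      refine Cfsg.Agent.Lib.PSUTwo.FourThree.four_three_two_gen S hσ P h4 hc9 h30 hρ0 hα2 ?_ ?_
      · rw [hq]
        apply eq_inv_of_mul_eq_one_left
        rw [← h8]
        ring
      · rw [hq]
        ring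
    · exact Cfsg.Agent.Lib.PSUTwo.Four.four_two_gen S hσ P h4 hα0 (alpha_sq_ne hF hq2 hρ0 hρ) hnorm
        (alpha_gen_two hF hq2 hρ0 hρ hq3)
  · -- dimension at least five
    obtain ⟨e₀, f₀, e₁, f₁, P⟩ := exists_pairs S hσ (by omega)
    obtain ⟨w₂, hw₂, w₂1, w₂2, w₂3, w₂4, v, hv, hvw, cyc⟩ := Cfsg.Agent.Lib.PSUTwo.Cyc.exists_w2 S hσ P h5
    exact Cfsg.Agent.Lib.PSUTwo.BigGen.big_two_gen S hσ P hα0 (alpha_ne_one hF hq2 hρ0 hρ) hnorm
      (alpha_gen hF hq2 hρ0 hρ) hw₂ w₂1 w₂2 w₂3 w₂4 hv hvw cyc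

/-- `PSU_n(q)` is generated by two elements. -/
theorem psu_two_gen {F : Type*} [Field F] [Fintype F] {q : ℕ} (hF : Fintype.card F = q ^ 2) (n : ℕ) (hn : 3 ≤ n)
    (h32 : n = 3 → q ≠ 2) : ∃ a b : Cfsg.PSU n F q, Subgroup.closure ({a, b} : Set (Cfsg.PSU n F q)) = ⊤ := by
  have hfr : finrank F (Fin n → F) = n := by rw [Module.finrank_fin_fun]
  obtain ⟨a, b, hab⟩ := su_two_gen hF (two_le hF) (fun t => frobHom_apply hF t) (hform hF n) (invol_frob hF)
    (by rw [hfr]; exact hn) (by rw [hfr]; exact h32)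
  rw [← suGroup_eq_eGroup (invol_frob hF) (hform hF n)] at hab
  have ha : a ∈ suGroup (Cfsg.hermForm n F q) := hab ▸ Subgroup.subset_closure (by simp)
  have hb : b ∈ suGroup (Cfsg.hermForm n F q) := hab ▸ Subgroup.subset_closure (by simp)
  have h1 : Subgroup.closure ({⟨a, ha⟩, ⟨b, hb⟩} : Set (suGroup (Cfsg.hermForm n F q))) = ⊤ := by
    apply Subgroup.map_injective (suGroup (Cfsg.hermForm n F q)).subtype_injective
    rw [MonoidHom.map_closure, Set.image_pair]
    show Subgroup.closure {a, b} = _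
    rw [hab, ← MonoidHom.range_eq_map, Subgroup.range_subtype]
  set E := suEquiv (F := F) n q with hE
  have h2 := congrArg (Subgroup.map E.symm.toMonoidHom) h1
  rw [MonoidHom.map_closure, Set.image_pair, Subgroup.map_top_of_surjective _ E.symm.surjective] at h2
  have h3 := congrArg (Subgroup.map (QuotientGroup.mk' (Subgroup.center (Cfsg.SU n F q)))) h2
  rw [MonoidHom.map_closure, Subgroup.map_top_of_surjective _ (QuotientGroup.mk'_surjective _), Set.image_pair] at h3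
  exact ⟨_, _, h3⟩

end Cfsg.Agent.Lib.PSUTwo.Final
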